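import Cfsg.Agent.Omega.NO3S.Pt.Path

/-!
# NO-3S, `|V| = 4`, critical distance 2 (TwoMid): the base

* `Mid T V z p r q` : `p ~ r ~ q`, `[W_p, W_q] ≠ 1`, pairs at distance `< 2` commute;
* `Mid.not_mem` : `p ∉ W_q`; `Mid.cent_of_kq` : `W_q ∩ K_p ≤ C(W_p)`;
  `Mid.comm_of_mod` : `w ∈ W_p`, `[w, W_q] ≤ ⟨p⟩` implies `[w, W_q] = 1`;
* `rr V p q = [W_p, W_q]`, `rr_le_inf`, `p ∉ rr`;
* `uu V r = U_r = ⟨W_y : y ~ r⟩`: `uu_le_o2`, `uu_le_cent` (`U_r ≤ C(W_r)`), `uu_norm` (`U_r` normalises `W_y`, `y ~ r`).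
-/

set_option autoImplicit false
set_option linter.unusedSectionVars false

namespace Cfsg.Agent.Omega.NO3S.TwoMid

open Subgroup Cfsg Cfsg.Agent.ZN Cfsg.Agent.MinSimple.Geo Cfsg.Agent.Omega.CaseL Cfsg.Agent.Omega.NO3S.TwoOne
  Cfsg.Agent.Omega.NO3S.Pt
open Cfsg.Agent.ZN.Block (conj_mem_of_normalizer conj_mem_of_normalizer' le_normalizer_of_forall
  mem_normalizer_of)

universe u

variable {G : Type u} [Group G]

/-- the situation of a critical distance `2` -/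
structure Two (T V : Subgroup G) (z : G) : Prop where
  fr : Fr T V z
  mn : Mn V 2

/-- critical triple: `p ~ r ~ q`, `[W_p, W_q] ≠ 1`, critical distance 2 -/
structure Mid (T V : Subgroup G) (z p r q : G) : Prop extends Two T V z where
  pr : Col V p r
  rq : Col V r q
  ne : ¬ Com V p q

theorem Mid.of_cr {T V : Subgroup G} {z p q : G} (h : Fr T V z) (hc : Cr V 2 p q) :
    ∃ r, Mid T V z p r q := by
  obtain ⟨r, h1, h2⟩ := hc.path.exists_mid
  exact ⟨r, ⟨h, hc.min⟩, h1, h2, hc.ne⟩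

/-- `U_r = ⟨W_y : y ~ r⟩` -/
def uu (V : Subgroup G) (r : G) : Subgroup G := sSup {W | ∃ y, Col V r y ∧ W = ws V y}

theorem ws_le_uu {V : Subgroup G} {r y : G} (h : Col V r y) : ws V y ≤ uu V r := le_sSup ⟨y, h, rfl⟩

theorem uu_le {V U : Subgroup G} {r : G} (h : ∀ y, Col V r y → ws V y ≤ U) : uu V r ≤ U := by
  refine sSup_le ?_
  rintro _ ⟨y, hy, rfl⟩
  exact h y hy

theorem cj_uu (V : Subgroup G) (g r : G) : cj g (uu V r) = uu V (g * r * g⁻¹) := by
  have key : ∀ g r : G, cj g (uu V r) ≤ uu V (g * r * g⁻¹) := by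
    intro g r
    rw [cj_le_iff]
    refine uu_le fun y hy => ?_
    rw [← cj_le_iff, cj_ws]
    exact ws_le_uu (hy.conj g)
  refine le_antisymm (key g r) ?_
  have h := key g⁻¹ (g * r * g⁻¹)
  have e : g⁻¹ * (g * r * g⁻¹) * g⁻¹⁻¹ = r := by group
  rw [e, cj_le_iff, inv_inv] at h
  exact h

theorem centralizer_le_normalizer_uu (V : Subgroup G) (r : G) :
    centralizer ({r} : Set G) ≤ normalizer ((uu V r : Subgroup G) : Set G) := by
  intro g hg
  rw [mem_normalizer_iff_cj, cj_uu]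
  have : g * r * g⁻¹ = r := by rw [mem_centralizer_singleton_iff.mp hg]; group
  rw [this]

namespace Two

variable {T V : Subgroup G} {z : G} {p r q a b : G}

theorem conj (h : Two T V z) (g : G) : Two (cj g T) (cj g V) (g * z * g⁻¹) where
  fr := h.fr.conj g
  mn := by
    intro k hk a b hab u hu w hw
    rw [ws_cj] at hu hw
    refine h.mn k hk a b ?_ u hu w hw
    clear hu hw
    have key : ∀ {x y : G}, Col (cj g V) x y → Col V x y := by
      rintro x y ⟨m, h1, h2, h3, h4⟩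
      rw [cj_cj] at h1 h2
      exact ⟨m * g, h1, h2, h3, h4⟩
    induction hab with
    | zero hx => exact .zero (key hx)
    | step _ c ih => exact (ih (by omega)).step (key c)

/-- collinear points: `W_p`, `W_r` commute -/
theorem com (h : Two T V z) (hpr : Col V p r) : Com V p r :=
  h.mn 1 (by omega) p r (Pth.of_col hpr)

/-- `W_y ≤ O₂(C(r))`, `y ~ r` -/
theorem ws_le_o2 [Finite G] (h : Two T V z) (hpr : Col V p r) : ws V p ≤ o2 (centralizer ({r} : Set G)) :=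
  h.fr.ws_le_o2_of_pth h.mn 1 (by omega) p r (Pth.of_col hpr)

theorem ws_le_cent (h : Two T V z) (hpr : Col V p r) : ws V p ≤ centralizer (ws V r : Set G) := by
  intro a ha
  rw [mem_centralizer_iff]
  intro b hb
  exact (h.com hpr a ha b hb).symm

/-- `U_r ≤ O₂(C(r))` -/
theorem uu_le_o2 [Finite G] (h : Two T V z) (r : G) : uu V r ≤ o2 (centralizer ({r} : Set G)) :=
  uu_le fun _ hy => h.ws_le_o2 hy.symm

/-- `U_r ≤ C(W_r)` -/
theorem uu_le_cent (h : Two T V z) (r : G) : uu V r ≤ centralizer (ws V r : Set G) :=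
  uu_le fun _ hy => h.ws_le_cent hy.symm

theorem ws_le_uu_self (_ : Two T V z) (hr : Col V r r) : ws V r ≤ uu V r := ws_le_uu hr

/-- elements centralising `W_r` centralise the points `y ~ r` -/
theorem cent_ws_le (h : Two T V z) (hry : Col V r a) : centralizer (ws V r : Set G) ≤ centralizer ({a} : Set G) := by
  intro c hc
  rw [mem_centralizer_singleton_iff]
  exact (mem_centralizer_iff.mp hc a (h.fr.mem_ws_of_col hry)).symm

/-- `U_r` normalises `W_y`, `y ~ r` -/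
theorem uu_norm (h : Two T V z) (hry : Col V r a) : uu V r ≤ normalizer ((ws V a : Subgroup G) : Set G) :=
  ((h.uu_le_cent r).trans (h.cent_ws_le hry)).trans (centralizer_le_normalizer_ws V a)

theorem isPGroup_uu [Finite G] (h : Two T V z) (r : G) : IsPGroup 2 (uu V r) :=
  (isPGroup_o2 _).to_le (h.uu_le_o2 r)

/-- `W_a`, `W_b` normalise each other if `a ~ r ~ b` -/
theorem norm (h : Two T V z) (har : Col V a r) (hrb : Col V r b) :
    ws V a ≤ normalizer ((ws V b : Subgroup G) : Set G) :=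
  (ws_le_uu har.symm).trans (h.uu_norm hrb)

theorem comm_mem (h : Two T V z) (har : Col V a r) (hrb : Col V r b) {x y : G} (hx : x ∈ ws V a)
    (hy : y ∈ ws V b) : x * y * x⁻¹ * y⁻¹ ∈ ws V a ⊓ ws V b := by
  refine mem_inf.mpr ⟨?_, (ws V b).mul_mem (conj_mem_of_normalizer (h.norm har hrb) hx hy)
    ((ws V b).inv_mem hy)⟩
  have e : x * y * x⁻¹ * y⁻¹ = x * (y * x⁻¹ * y⁻¹) := by group
  rw [e]
  exact (ws V a).mul_mem hx (conj_mem_of_normalizer (h.norm hrb.symm har.symm) hy ((ws V a).inv_mem hx))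

end Two

/-- `[W_p, W_q]` -/
def rr (V : Subgroup G) (p q : G) : Subgroup G :=
  closure {c | ∃ x ∈ ws V p, ∃ y ∈ ws V q, c = x * y * x⁻¹ * y⁻¹}

theorem comm_mem_rr {V : Subgroup G} {p q x y : G} (hx : x ∈ ws V p) (hy : y ∈ ws V q) :
    x * y * x⁻¹ * y⁻¹ ∈ rr V p q := subset_closure ⟨x, hx, y, hy, rfl⟩

theorem rr_comm (V : Subgroup G) (p q : G) : rr V p q = rr V q p := by
  have key : ∀ p q : G, rr V p q ≤ rr V q p := by
    intro p q
    refine (closure_le _).mpr ?_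
    rintro _ ⟨x, hx, y, hy, rfl⟩
    have : x * y * x⁻¹ * y⁻¹ = (y * x * y⁻¹ * x⁻¹)⁻¹ := by group
    rw [this]
    exact inv_mem (comm_mem_rr hy hx)
  exact le_antisymm (key p q) (key q p)

theorem cj_rr (V : Subgroup G) (g p q : G) : cj g (rr V p q) = rr V (g * p * g⁻¹) (g * q * g⁻¹) := by
  have key : ∀ g p q : G, cj g (rr V p q) ≤ rr V (g * p * g⁻¹) (g * q * g⁻¹) := by
    intro g p q
    rw [cj_le_iff]
    refine (closure_le _).mpr ?_
    rintro _ ⟨x, hx, y, hy, rfl⟩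
    refine mem_cj.mpr ?_
    have e : g⁻¹⁻¹ * (x * y * x⁻¹ * y⁻¹) * g⁻¹ =
        (g * x * g⁻¹) * (g * y * g⁻¹) * (g * x * g⁻¹)⁻¹ * (g * y * g⁻¹)⁻¹ := by group
    rw [e]
    exact comm_mem_rr (conj_mem_ws g hx) (conj_mem_ws g hy)
  refine le_antisymm (key g p q) ?_
  have h := key g⁻¹ (g * p * g⁻¹) (g * q * g⁻¹)
  have e : ∀ x : G, g⁻¹ * (g * x * g⁻¹) * g⁻¹⁻¹ = x := fun x => by group
  rw [e, e, cj_le_iff, inv_inv] at h
  exact h

namespace Mid

variable {T V : Subgroup G} {z : G} {p r q : G}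

theorem cr (h : Mid T V z p r q) : Cr V 2 p q := ⟨(Pth.of_col h.pr).step h.rq, h.ne, h.mn⟩

theorem symm (h : Mid T V z p r q) : Mid T V z q r p :=
  { h.toTwo with pr := h.rq.symm, rq := h.pr.symm, ne := fun e => h.ne e.symm }

theorem conj (h : Mid T V z p r q) (g : G) : Mid T V z (g * p * g⁻¹) (g * r * g⁻¹) (g * q * g⁻¹) :=
  { h.toTwo with pr := h.pr.conj g, rq := h.rq.conj g, ne := fun e => h.ne (e.of_conj g) }

theorem ne_pr (h : Mid T V z p r q) : p ≠ r := by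
  rintro rfl
  exact h.ne (h.toTwo.com h.rq)

theorem ne_rq (h : Mid T V z p r q) : r ≠ q := by
  rintro rfl
  exact h.ne (h.toTwo.com h.pr)

theorem not_col (h : Mid T V z p r q) : ¬ Col V p q := fun e => h.ne (h.toTwo.com e)

theorem ne_pq (h : Mid T V z p r q) : p ≠ q := by
  rintro rfl
  exact h.not_col h.pr.left

/-- `p ∉ W_q` -/
theorem not_mem [Finite G] (h : Mid T V z p r q) : p ∉ ws V q := by
  intro hp
  obtain ⟨g, hr, hq, hr1, hq1⟩ := h.rq
  exact h.cr.star h.fr (Pth.of_col h.pr) hr hq hr1 hq1 hp (h.fr.mem_ws_of_col h.pr.symm)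

theorem not_mem' [Finite G] (h : Mid T V z p r q) : q ∉ ws V p := h.symm.not_mem

/-- `W_q` centralises `p` -/
theorem cent (h : Mid T V z p r q) : ws V q ≤ centralizer ({p} : Set G) :=
  (h.toTwo.ws_le_cent h.rq.symm).trans (h.toTwo.cent_ws_le h.pr.symm)

theorem norm (h : Mid T V z p r q) : ws V q ≤ normalizer ((ws V p : Subgroup G) : Set G) :=
  h.cent.trans (centralizer_le_normalizer_ws V p)

theorem comm_mem (h : Mid T V z p r q) {x y : G} (hx : x ∈ ws V p) (hy : y ∈ ws V q) :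
    x * y * x⁻¹ * y⁻¹ ∈ ws V p ⊓ ws V q := h.toTwo.comm_mem h.pr h.rq hx hy

theorem rr_le (h : Mid T V z p r q) : rr V p q ≤ ws V p ⊓ ws V q := by
  refine (closure_le _).mpr ?_
  rintro _ ⟨x, hx, y, hy, rfl⟩
  exact h.comm_mem hx hy

theorem rr_ne_bot (h : Mid T V z p r q) : rr V p q ≠ ⊥ := by
  intro e
  apply h.ne
  intro x hx y hy
  have := comm_mem_rr hx hy (V := V)
  rw [e, mem_bot] at this
  calc x * y = (x * y * x⁻¹ * y⁻¹) * (y * x) := by group
    _ = y * x := by rw [this, one_mul]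

/-- `r ∈ W_p ∩ W_q` -/
theorem r_mem (h : Mid T V z p r q) : r ∈ ws V p ⊓ ws V q :=
  ⟨h.fr.mem_ws_of_col h.pr, h.fr.mem_ws_of_col h.rq.symm⟩

/-- an element of `⟨p⟩ ∩ W_q` is trivial -/
theorem eq_one_of_mem [Finite G] (h : Mid T V z p r q) {c : G} (hc : c ∈ zpowers p) (hq : c ∈ ws V q) : c = 1 := by
  rcases (mem_zpowers_iff_of_mul_self (h.fr.pt_sq h.pr.left)).mp hc with e | e
  · exact e
  · exact absurd (e ▸ hq) h.not_mem

/-- `W_q ∩ K_p ≤ C(W_p)` -/
theorem cent_of_kq [Finite G] (h : Mid T V z p r q) {b : G} (hb : b ∈ ws V q) (hk : b ∈ kq V p) :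
    b ∈ centralizer (ws V p : Set G) := by
  rw [mem_centralizer_iff]
  intro w hw
  have h1 : b * w * b⁻¹ * w⁻¹ = 1 := by
    refine h.eq_one_of_mem (kq_comm hk hw) ?_
    exact (h.symm.comm_mem hb hw).1
  calc w * b = (b * w * b⁻¹ * w⁻¹)⁻¹ * (b * w) := by group
    _ = b * w := by rw [h1, inv_one, one_mul]

/-- `w ∈ W_p`, `[w, W_q] ≤ ⟨p⟩` implies `[w, W_q] = 1` -/
theorem comm_of_mod [Finite G] (h : Mid T V z p r q) {w : G} (hw : w ∈ ws V p)
    (hk : ∀ b ∈ ws V q, w * b * w⁻¹ * b⁻¹ ∈ zpowers p) : w ∈ centralizer (ws V q : Set G) := by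
  rw [mem_centralizer_iff]
  intro b hb
  have h1 : w * b * w⁻¹ * b⁻¹ = 1 := h.eq_one_of_mem (hk b hb) (h.comm_mem hw hb).2
  calc b * w = (w * b * w⁻¹ * b⁻¹)⁻¹ * (w * b) := by group
    _ = w * b := by rw [h1, inv_one, one_mul]

theorem not_mem_rr [Finite G] (h : Mid T V z p r q) : p ∉ rr V p q := fun e => h.not_mem (h.rr_le e).2

theorem not_mem_rr' [Finite G] (h : Mid T V z p r q) : q ∉ rr V p q := fun e => h.not_mem' (h.rr_le e).1

end Mid

end Cfsg.Agent.Omega.NO3S.TwoMid
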