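import Cfsg.Agent.Omega.NO3S.TwoMid.CubU

/-!
# NO-3S, `|V| = 4`, critical distance 2 (TwoMid): the hypothesis (NO)

`M_b = W_b / ⟨b⟩`, `H_b = C_G(b) / K_b`.

* `InO V b r X` : `X` lies in a `(G_b ∩ G_r)`-invariant subgroup of `G_b` which fixes `r` modulo `⟨b⟩` and is a 2-group
  modulo `K_b` (so the image of `X` in `H_b` lies in `O₂(C_{H_b}(rbar))`);
* `NOm V` **(NO)** : if moreover the image of `X` in `H_b` is elementary abelian, then it is not an over-offender on `M_b`;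
* `inO_of_le_uu`, `inO_of_le_o2` : subgroups of `U_r`, `O₂(C_G(W_r))`;
* `Mid.exact` : under (NO) `|W_a : C_{W_a}(W_b)| = |W_b : C_{W_b}(W_a)|` for critical `(a, b)`.
-/

set_option autoImplicit false
set_option linter.unusedSectionVars false

namespace Cfsg.Agent.Omega.NO3S.TwoMid

open Subgroup Cfsg Cfsg.Agent.ZN Cfsg.Agent.MinSimple.Geo Cfsg.Agent.Omega.CaseL Cfsg.Agent.Omega.NO3S.TwoOne
  Cfsg.Agent.Omega.NO3S.Pt
open Cfsg.Agent.Omega.NO3S.Dual (nn mem_nn DW mem_sup_of_comm)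
open Cfsg.Agent.ZN.Block (conj_mem_of_normalizer conj_mem_of_normalizer' le_normalizer_of_forall
  mem_normalizer_of)

universe u

variable {G : Type u} [Group G] {T V : Subgroup G} {z : G} {a b r x : G}

/-- the image of `X` in `H_b` lies in `O₂(C_{H_b}(rbar))` -/
def InO (V : Subgroup G) (b r : G) (X : Subgroup G) : Prop :=
  ∃ N : Subgroup G, X ≤ N ∧ N ≤ centralizer ({b} : Set G) ∧
    (∀ g : G, g * b = b * g → g * r = r * g → ∀ n ∈ N, g * n * g⁻¹ ∈ N) ∧
    (∀ n ∈ N, n * r * n⁻¹ * r⁻¹ ∈ zpowers b) ∧ ∀ n ∈ N, ∃ k : ℕ, n ^ 2 ^ k ∈ kq V b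

/-- **(NO)** -/
def NOm (V : Subgroup G) : Prop :=
  ∀ b r : G, Col V b r → b ≠ r → ∀ X : Subgroup G, InO V b r X → (∀ x ∈ X, x * x ∈ kq V b) → NoOv V b X

theorem InO.mono {X Y : Subgroup G} (h : InO V b r X) (hYX : Y ≤ X) : InO V b r Y := by
  obtain ⟨N, h1, h2⟩ := h
  exact ⟨N, hYX.trans h1, h2⟩

section

variable [Finite G]

theorem inO_o2 (h : Two T V z) (hbr : Col V b r) : InO V b r (o2 (centralizer (ws V r : Set G))) := by
  have h1 := h.cent_ws_le hbr.symm
  refine ⟨_, le_rfl, (o2_le _).trans h1, fun g _ hgr n hn => ?_, fun n hn => ?_, fun n hn => ?_⟩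
  · exact conj_mem_of_normalizer ((centralizer_le_normalizer_ws V r).trans
      ((normalizer_le_normalizer_centralizer _).trans (normalizer_le_normalizer_o2 _)))
      (mem_centralizer_singleton_iff.mpr hgr) hn
  · have h2 := mem_centralizer_singleton_iff.mp (cent_ws_le_self h.fr hbr.right (o2_le _ hn))
    rw [h2, mul_inv_cancel_right, mul_inv_cancel]
    exact one_mem _
  · obtain ⟨k, hk⟩ := isPGroup_o2 (centralizer (ws V r : Set G)) ⟨n, hn⟩
    refine ⟨k, ?_⟩
    have h3 := congrArg Subtype.val hk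
    rw [SubmonoidClass.coe_pow, OneMemClass.coe_one] at h3
    rw [h3]
    exact one_mem _

/-- `U_r ≤ O₂(C_G(W_r))` -/
theorem uu_le_o2_cent (h : Two T V z) (hr : Col V r r) : uu V r ≤ o2 (centralizer (ws V r : Set G)) := by
  refine le_o2 (h.uu_le_cent r) (h.isPGroup_uu r) ?_
  exact (cent_ws_le_self h.fr hr).trans (centralizer_le_normalizer_uu V r)

theorem inO_of_le_uu (h : Two T V z) (hbr : Col V b r) {X : Subgroup G} (hX : X ≤ uu V r) : InO V b r X :=
  (inO_o2 h hbr).mono (hX.trans (uu_le_o2_cent h hbr.right))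

/-- `W_a ∩ K_b = C_{W_a}(W_b)` for critical `(a, b)` -/
theorem Mid.inf_kq (h : Mid T V z a r b) :
    ws V a ⊓ kq V b = ws V a ⊓ centralizer (ws V b : Set G) := by
  refine le_antisymm (fun x hx => ⟨hx.1, h.symm.cent_of_kq hx.1 hx.2⟩) fun x hx => ⟨hx.1, ?_⟩
  refine ⟨h.symm.cent hx.1, fun w hw => ?_, fun w hw => ?_⟩
  · rw [(mem_centralizer_iff.mp hx.2 w hw).symm, mul_inv_cancel_right, mul_inv_cancel]
    exact one_mem _
  · rw [mul_assoc, mul_assoc, ← mul_assoc w x, mem_centralizer_iff.mp hx.2 w hw, mul_assoc,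
      inv_mul_cancel_left, mul_inv_cancel]
    exact one_mem _

/-- `{w ∈ W_b : [w, W_a] ≤ ⟨b⟩} = C_{W_b}(W_a)` for critical `(a, b)` -/
theorem Mid.cmod_eq (h : Mid T V z a r b) : cmod V b (ws V a) = ws V b ⊓ centralizer (ws V a : Set G) := by
  ext w
  rw [mem_cmod h.fr h.rq.right, mem_inf]
  refine and_congr_right fun hw => ⟨fun h1 => ?_, fun h1 y hy => ?_⟩
  · refine h.symm.comm_of_mod hw fun y hy => ?_
    have e : w * y * w⁻¹ * y⁻¹ = (y * w * y⁻¹ * w⁻¹)⁻¹ := by group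
    rw [e]
    exact inv_mem (h1 y hy)
  · rw [mem_centralizer_iff.mp h1 y hy, mul_inv_cancel_right, mul_inv_cancel]
    exact one_mem _

theorem Mid.exact_le (h : Mid T V z a r b) (hNO : NOm V) :
    (ws V a ⊓ centralizer (ws V b : Set G)).relIndex (ws V a) ≤
      (ws V b ⊓ centralizer (ws V a : Set G)).relIndex (ws V b) := by
  have h1 := hNO b r h.rq.symm h.ne_rq.symm (ws V a) (inO_of_le_uu h.toTwo h.rq.symm (ws_le_uu h.pr.symm))
    fun x hx => by rw [h.fr.ws_sq h.pr.left x hx]; exact one_mem _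
  unfold NoOv at h1
  rwa [h.inf_kq, h.cmod_eq] at h1

/-- **exactness** of critical pairs -/
theorem Mid.exact (h : Mid T V z a r b) (hNO : NOm V) :
    (ws V a ⊓ centralizer (ws V b : Set G)).relIndex (ws V a) =
      (ws V b ⊓ centralizer (ws V a : Set G)).relIndex (ws V b) :=
  le_antisymm (h.exact_le hNO) (h.symm.exact_le hNO)

end

end Cfsg.Agent.Omega.NO3S.TwoMid
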