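import Cfsg.Agent.Omega.NOThree.LL.BlockRed

/-!
# TwoMid, the end (bb #18802, #18799 (8)): the module part

`BD H lam U c` (two blocks); `t_c`, `t_d` transvections with the centres `c`, `d = c + λ`.

* `BD.opp` : an opposite line vector `μ = s λ`: `t_c` moves `μ`, `t_c^s` moves `μ + c`, and
  `⟨c, λ⟩ ∩ ⟨s c, s λ⟩ = 0`;
* `exists_nb` : neighbours of a transvection with a centre conjugate to `λ`.
-/

set_option autoImplicit false
set_option linter.unusedSectionVars false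

namespace Cfsg.Agent.Omega.NOThree.LL

open Subgroup Cfsg Cfsg.Agent

namespace Block

variable {H : Type*} [Group H] {M : Type*} [AddCommGroup M] [Module (ZMod 2) M] [DistribMulAction H M]
  [Finite H] [Finite M] [FaithfulSMul H M] {lam c : M} {U : AddSubgroup M} {φ₀ : M →+ ZMod 2}

theorem Blk.opp (b : Blk H lam U c φ₀) (hO : pCore 2 H = ⊥) {tc td : H} {φc φd : M →+ ZMod 2}
    (hc : IsT tc c φc) (hc0 : φc ≠ 0) (hd : IsT td (c + lam) φd) (hd0 : φd ≠ 0) :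
    ∃ s : H, tc • (s • lam) = s • lam + c ∧ td • (s • lam) = s • lam + (c + lam) ∧
      (s * tc * s⁻¹) • (s • lam + lam) = s • lam + lam + s • c ∧
      (s * tc * s⁻¹) • (s • lam + c) = s • lam + c + s • c ∧
      ∀ v : M, (v = 0 ∨ v = c ∨ v = c + lam ∨ v = lam) →
        (v = 0 ∨ v = s • c ∨ v = s • c + s • lam ∨ v = s • lam) → v = 0 := by
  have S := b.sys
  have hs : ∀ m : M, m + m = 0 := add_self
  obtain ⟨e₁, he₁, k1⟩ := S.exists_ne hc0
  obtain ⟨e₂, he₂, k2⟩ := S.exists_ne hd0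
  have J1 : J H (Del H c) c e₁ := ⟨b.c_mem, he₁, φc, ⟨tc, hc⟩, k1⟩
  have J2 : J H (Del H c) (c + lam) e₂ := ⟨b.c'_mem, he₂, φd, ⟨td, hd⟩, k2⟩
  obtain ⟨-, -, ψ₁, ⟨s₁, hs₁⟩, l1⟩ := S.J_symm J1
  obtain ⟨-, -, ψ₂, ⟨s₂, hs₂⟩, l2⟩ := S.J_symm J2
  have R1 : Rt H (Del H c) c e₁ := Relation.ReflTransGen.single J1
  have R2 : Rt H (Del H c) (c + lam) e₂ := Relation.ReflTransGen.single J2
  have n1 : ¬ Rt H (Del H c) c e₂ := fun h => b.not_rt hO (h.trans (S.rtg_symm R2))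
  have n2 : ¬ Rt H (Del H c) (c + lam) e₁ := fun h => b.not_rt hO (R1.trans (S.rtg_symm h))
  have Z1 := b.Z1 hO
  have Z2 := b.Z2 hO
  have Z3 : Z H (Del H c) c e₂ := S.Z_of_not b.c_mem he₂ n1
  have Z4 : Z H (Del H c) (c + lam) e₁ := S.Z_of_not b.c'_mem he₁ n2
  have a1 : φc c = 0 := hc.self b.c0
  have a2 : φc (c + lam) = 0 := Z1 c Relation.ReflTransGen.refl φc ⟨tc, hc⟩
  have a3 : φc lam = 0 := by rwa [map_add, a1, zero_add] at a2
  have b1 : φd (c + lam) = 0 := hd.self (S.ne_zero b.c'_mem)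
  have b2 : φd c = 0 := Z2 _ Relation.ReflTransGen.refl φd ⟨td, hd⟩
  have b3 : φd lam = 0 := by rwa [map_add, b2, zero_add] at b1
  have c1 : φc e₂ = 0 := Z3 c Relation.ReflTransGen.refl φc ⟨tc, hc⟩
  have c2 : φd e₁ = 0 := Z4 _ Relation.ReflTransGen.refl φd ⟨td, hd⟩
  have d1 : ψ₁ (c + lam) = 0 := Z1 e₁ R1 ψ₁ ⟨s₁, hs₁⟩
  have d2 : ψ₁ e₂ = 0 := Z3 e₁ R1 ψ₁ ⟨s₁, hs₁⟩
  have d3 : ψ₁ e₁ = 0 := hs₁.self (S.ne_zero he₁)
  have d4 : ψ₁ lam = 1 := by
    rw [map_add, l1] at d1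
    rcases zc (ψ₁ lam) with e | e
    · rw [e] at d1; exact absurd d1 (by decide)
    · exact e
  have f1 : ψ₂ c = 0 := Z2 e₂ R2 ψ₂ ⟨s₂, hs₂⟩
  have f2 : ψ₂ e₁ = 0 := Z4 e₂ R2 ψ₂ ⟨s₂, hs₂⟩
  have f3 : ψ₂ e₂ = 0 := hs₂.self (S.ne_zero he₂)
  have f4 : ψ₂ lam = 1 := by rwa [map_add, f1, zero_add] at l2
  have g1 : (s₁ * s₂) • c = c + e₁ := by
    rw [mul_smul, hs₂ c, f1, zero_smul, add_zero, hs₁ c, l1, one_smul]
  have g2 : (s₁ * s₂) • lam = lam + e₁ + e₂ := by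
    rw [mul_smul, hs₂ lam, f4, one_smul, hs₁, map_add, d4, d2, add_zero, one_smul]
    abel
  have g3 : (s₁ * s₂)⁻¹ • lam = lam + e₁ + e₂ := by
    rw [inv_smul_eq_iff, mul_smul, hs₂, map_add, map_add, f4, f2, f3, add_zero, add_zero, one_smul, add_assoc,
      add_assoc, hs, add_zero, hs₁, map_add, d4, d3, add_zero, one_smul, add_assoc, hs, add_zero]
  have g4 : (s₁ * s₂)⁻¹ • c = c + e₁ := by
    rw [inv_smul_eq_iff, mul_smul, hs₂, map_add, f1, f2, add_zero, zero_smul, add_zero, hs₁, map_add, l1, d3, add_zero,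
      one_smul, add_assoc, hs, add_zero]
  refine ⟨s₁ * s₂, ?_, ?_, ?_, ?_, ?_⟩
  · rw [g2, hc, map_add, map_add, a3, k1, c1, zero_add, add_zero, one_smul]
  · rw [g2, hd, map_add, map_add, b3, c2, k2, zero_add, zero_add, one_smul]
  · have h1 : (s₁ * s₂) • lam + lam = (s₁ * s₂) • (lam + (s₁ * s₂)⁻¹ • lam) := by
      rw [smul_add, smul_inv_smul]
    rw [mul_smul, mul_smul, h1, inv_smul_smul, g3, hc, ← smul_add]
    congr 2
    rw [map_add, map_add, map_add, a3, k1, c1, zero_add, zero_add, add_zero, one_smul]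
  · have h1 : (s₁ * s₂) • lam + c = (s₁ * s₂) • (lam + (s₁ * s₂)⁻¹ • c) := by
      rw [smul_add, smul_inv_smul]
    rw [mul_smul, mul_smul, h1, inv_smul_smul, g4, hc, ← smul_add]
    congr 2
    rw [map_add, map_add, a3, a1, k1, zero_add, zero_add, one_smul]
  · rw [g1, g2]
    have z1 : ∀ v : M, (v = 0 ∨ v = c ∨ v = c + lam ∨ v = lam) → φc v = 0 ∧ φd v = 0 := by
      rintro v (rfl | rfl | rfl | rfl)
      · exact ⟨map_zero _, map_zero _⟩
      · exact ⟨a1, b2⟩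
      · exact ⟨a2, b1⟩
      · exact ⟨a3, b3⟩
    rintro v hv (rfl | rfl | rfl | rfl)
    · rfl
    · have := (z1 _ hv).1
      rw [map_add, a1, k1] at this
      exact absurd this (by decide)
    · have := (z1 _ hv).2
      rw [map_add, map_add, map_add, map_add, b2, c2, b3, k2] at this
      exact absurd this (by decide)
    · have := (z1 _ hv).1
      rw [map_add, map_add, a3, k1, c1] at this
      exact absurd this (by decide)

end Block

variable {H : Type*} [Group H] {M : Type*} [AddCommGroup M] [DistribMulAction H M]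

/-- **the opposite line vector** -/
theorem BD.opp {lam c : M} {U : AddSubgroup M} [Finite H] [Finite M] (b : BD H lam U c) {tc : H}
    (hc : Tr c tc) :
    ∃ s : H, tc • (s • lam) = s • lam + c ∧ (s * tc * s⁻¹) • (s • lam + c) = s • lam + c + s • c ∧
      ∀ v : M, (v = 0 ∨ v = c ∨ v = c + lam ∨ v = lam) →
        (v = 0 ∨ v = s • c ∨ v = s • c + s • lam ∨ v = s • lam) → v = 0 := by
  let _ : Module (ZMod 2) M := AddCommGroup.zmodModule fun m => by rw [two_nsmul, b.two]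
  obtain ⟨φ, B⟩ := b.exists_blk
  obtain ⟨φc, hc0, hc'⟩ := hc.exists_fun b.c0
  have hcl : c ≠ lam := fun e => b.cl 1 (by rw [one_smul, e])
  obtain ⟨k, hk1, hk2⟩ := b.F2 c b.cU b.c0 hcl
  have hd : Tr (c + lam) (k * tc * k⁻¹) := by
    rw [← hk2]
    refine ⟨fun m => ?_, ?_⟩
    · rw [mul_smul, mul_smul]
      rcases hc.tr (k⁻¹ • m) with e | e
      · left; rw [e, smul_inv_smul]
      · right; rw [e, smul_add, smul_inv_smul]
    · obtain ⟨m, hm⟩ := hc.ne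
      refine ⟨k • m, fun e => hm ?_⟩
      rw [mul_smul, mul_smul, inv_smul_smul] at e
      exact smul_left_cancel k e
  obtain ⟨φd, hd0, hd'⟩ := hd.exists_fun (B.sys.ne_zero B.c'_mem)
  obtain ⟨s, h1, -, -, h3, h4⟩ := B.opp (pCore_im b.red) hc' hc0 hd' hd0
  obtain ⟨s, rfl⟩ := toIm_surj s
  rw [← map_inv, ← map_mul, ← map_mul] at h3
  exact ⟨s, h1, h3, h4⟩

/-- a transvection with a centre conjugate to `λ` has a neighbour -/
theorem exists_nb {lam c : M} [Finite H] [Finite M] (h2 : ∀ m : M, m + m = 0)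
    (span : ∀ m : M, m ∈ AddSubgroup.closure {v | ∃ g : H, v = g • lam}) (h0 : c ≠ 0) (hc : ∃ g : H, g • lam = c)
    {t : H} (ht : Tr c t) :
    ∃ (e : M) (t' : H), (∀ m : M, t' • m = m ∨ t' • m = m + e) ∧ t • e = e + c ∧ t' • c = c + e := by
  let _ : Module (ZMod 2) M := AddCommGroup.zmodModule fun m => by rw [two_nsmul, h2]
  obtain ⟨φ, hφ, hφt⟩ := ht.exists_fun h0
  obtain ⟨g, rfl⟩ := hc
  have S : Block.Sys (Im H M) {v | ∃ g : H, v = g • lam} :=
    { conj := by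
        rintro k _ ⟨g, rfl⟩
        obtain ⟨k, rfl⟩ := toIm_surj k
        exact ⟨k * g, by rw [mul_smul]; rfl⟩
      trans := by
        rintro _ ⟨g, rfl⟩ _ ⟨g', rfl⟩
        refine ⟨toIm (g' * g⁻¹), ?_⟩
        rw [toIm_smul, mul_smul, inv_smul_smul]
      zero := by
        rintro ⟨k, hk⟩
        apply h0
        have : lam = 0 := by rw [← inv_smul_smul k lam, ← hk, smul_zero]
        rw [this, smul_zero]
      span := by
        rw [eq_top_iff]
        intro m _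
        exact span m
      ex := ⟨g • lam, ⟨g, rfl⟩, φ, ⟨_, hφt⟩, hφ⟩ }
  obtain ⟨e, he, h1⟩ := S.exists_ne hφ
  have J1 : Block.J (Im H M) {v | ∃ g : H, v = g • lam} (g • lam) e := ⟨⟨g, rfl⟩, he, φ, ⟨_, hφt⟩, h1⟩
  obtain ⟨-, -, ψ, ⟨t', ht'⟩, h3⟩ := S.J_symm J1
  obtain ⟨t', rfl⟩ := toIm_surj t'
  refine ⟨e, t', fun m => ?_, ?_, ?_⟩
  · have := ht' m
    rw [toIm_smul] at this
    rcases Block.zc (ψ m) with e' | e'
    · left; rw [this, e', zero_smul, add_zero]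
    · right; rw [this, e', one_smul]
  · have := hφt e
    rwa [toIm_smul, h1, one_smul] at this
  · have := ht' (g • lam)
    rwa [toIm_smul, h3, one_smul] at this

end Cfsg.Agent.Omega.NOThree.LL
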