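import Cfsg.Agent.Omega.NO3S.TwoMid.NStar

/-!
# NO-3S, `|V| = 4`, critical distance 2 (TwoMid): `[W_b, U_r, C_G(W_r)] ≤ ⟨r⟩ N_b` (helper511 #18245 (1)-(6)), K-free

`C_r = C_G(W_r)` (`≥ U_r`), `E_br = [W_b, U_r] = ⁅ws V b, uu V r⁆`, `D_ab = rr V a b`, `N_b = nn (ws V b) (kq V b)`.

* `Mid.cent_rr` (1): `C_r ∩ K_b` centralises `D_ab`; `cent_comm` : it centralises `E_br`;
* `comm_mem_mm` (2): `[E_br, C_r] ≤ ⟨r⟩ N_b`;
* `NB` : the hypothesis `N_b = ⟨b⟩` (for all points), `comm_mem_r` (3): `[E_br, C_r] ≤ ⟨r⟩`, `gam` :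
  `[[U_r, U_r], C_r] ≤ ⟨r⟩`, `Mid.cent_of_not_mem` : `r ∉ D_ab` implies `[D_ab, C_r] = 1`;
* `co V b r = C1_br = {m ∈ W_b : [m, U_r] ≤ ⟨r⟩}`, `co_of_mod` (4), `mem_co_iff` : `C_{W_b}(U_r ∩ K_b) = C1_br`;
* `Mid.five` (5): `b ∈ D_xr` or `D_xr ∩ W_b = 1` for a critical `(x, r)` with middle `b`;
* `inner_of_not_mem` (6): `x ~ b ~ r`, `x ∉ C1_br`: `[W_x, W_r] = 1` or `D_xr ≤ W_b`.
-/

set_option autoImplicit false
set_option linter.unusedSectionVars false

namespace Cfsg.Agent.Omega.NO3S.TwoMid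

open Subgroup Cfsg Cfsg.Agent.ZN Cfsg.Agent.MinSimple.Geo Cfsg.Agent.Omega.CaseL Cfsg.Agent.Omega.NO3S.TwoOne
  Cfsg.Agent.Omega.NO3S.Pt
open Cfsg.Agent.Omega.NO3S.Dual (nn mem_nn DW mem_sup_of_comm)
open Cfsg.Agent.Omega.NO3S.TypeN (exists_conj_flag)
open Cfsg.Agent.ZN.Block (conj_mem_of_normalizer conj_mem_of_normalizer' le_normalizer_of_forall
  mem_normalizer_of)
open scoped commutatorElement

universe u

variable {G : Type u} [Group G] {T V : Subgroup G} {z : G} {a b r x : G}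

/-! ### generic lemmas -/

/-- `{u ∈ H : [w, u] ∈ F for all w ∈ W}` is a subgroup if `H` normalises `F`. -/
theorem closure_comm {W : Set G} {F H : Subgroup G} (hF : H ≤ normalizer (F : Set G)) {s : Set G} (hs : ∀ u ∈ s, u ∈ H)
    (h : ∀ w ∈ W, ∀ u ∈ s, w * u * w⁻¹ * u⁻¹ ∈ F) : ∀ w ∈ W, ∀ u ∈ closure s, w * u * w⁻¹ * u⁻¹ ∈ F := by
  let D : Subgroup G :=
    { carrier := {u | u ∈ H ∧ ∀ w ∈ W, w * u * w⁻¹ * u⁻¹ ∈ F}
      mul_mem' := by
        rintro u v ⟨hu, hu1⟩ ⟨hv, hv1⟩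
        refine ⟨mul_mem hu hv, fun w hw => ?_⟩
        have e : w * (u * v) * w⁻¹ * (u * v)⁻¹ = (w * u * w⁻¹ * u⁻¹) * (u * (w * v * w⁻¹ * v⁻¹) * u⁻¹) := by
          group
        rw [e]
        exact mul_mem (hu1 w hw) (conj_mem_of_normalizer hF hu (hv1 w hw))
      one_mem' := ⟨one_mem _, fun w _ => by simp⟩
      inv_mem' := by
        rintro u ⟨hu, hu1⟩
        refine ⟨inv_mem hu, fun w hw => ?_⟩
        have e : w * u⁻¹ * w⁻¹ * u⁻¹⁻¹ = u⁻¹ * (w * u * w⁻¹ * u⁻¹)⁻¹ * u := by group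
        rw [e]
        exact conj_mem_of_normalizer' hF hu (inv_mem (hu1 w hw)) }
  have : closure s ≤ D := (closure_le D).mpr fun u hu => ⟨hs u hu, fun w hw => h w hw u hu⟩
  exact fun w hw u hu => (this hu).2 w hw

theorem uu_eq_closure (V : Subgroup G) (r : G) : uu V r = closure {u | ∃ y, Col V r y ∧ u ∈ ws V y} := by
  refine le_antisymm (uu_le fun y hy u hu => subset_closure ⟨y, hy, hu⟩) ((closure_le _).mpr ?_)
  rintro u ⟨y, hy, hu⟩
  exact ws_le_uu hy hu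

/-- `[W, U_r] ≤ F` if `[w, x] ∈ F` for all `x ∈ W_a`, `a ~ r` and `F` is normalised by `U_r` -/
theorem comm_uu_le {W : Set G} {F : Subgroup G} (hF : uu V r ≤ normalizer (F : Set G))
    (h : ∀ w ∈ W, ∀ y, Col V r y → ∀ u ∈ ws V y, w * u * w⁻¹ * u⁻¹ ∈ F) :
    ∀ w ∈ W, ∀ u ∈ uu V r, w * u * w⁻¹ * u⁻¹ ∈ F := by
  intro w hw u hu
  rw [uu_eq_closure] at hu
  refine closure_comm (H := uu V r) hF ?_ ?_ w hw u hu
  · rintro u ⟨y, hy, hu⟩
    exact ws_le_uu hy hu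
  · rintro w hw u ⟨y, hy, hu⟩
    exact h w hw y hy u hu

theorem commutator_uu_le {W F : Subgroup G} (hF : uu V r ≤ normalizer (F : Set G))
    (h : ∀ w ∈ W, ∀ y, Col V r y → ∀ u ∈ ws V y, w * u * w⁻¹ * u⁻¹ ∈ F) : ⁅W, uu V r⁆ ≤ F := by
  refine commutator_le.mpr fun w hw u hu => ?_
  rw [commutatorElement_def]
  exact comm_uu_le (W := (W : Set G)) hF h w hw u hu

section

theorem conj_zpowers_of_comm {g c : G} (h : g * r = r * g) (hc : c ∈ zpowers r) : g * c * g⁻¹ = c := by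
  obtain ⟨n, rfl⟩ := mem_zpowers_iff.mp hc
  have h3 : Commute g r := h
  rw [(h3.zpow_right n).eq, mul_inv_cancel_right]

/-- `C_G(W_r) ≤ C(r)` -/
theorem cent_ws_le_self (h : Fr T V z) (hr : Col V r r) :
    centralizer (ws V r : Set G) ≤ centralizer ({r} : Set G) := by
  intro c hc
  rw [mem_centralizer_singleton_iff]
  exact (mem_centralizer_iff.mp hc r (h.mem_ws_self hr)).symm

variable [Finite G]

/-- (1) `C_G(W_r) ∩ K_b` centralises `D_ab` -/
theorem Mid.cent_rr (h : Mid T V z a r b) {c : G} (hc : c ∈ centralizer (ws V r : Set G)) (hk : c ∈ kq V b) :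
    ∀ d ∈ rr V a b, c * d = d * c := by
  intro d hd
  have hca : c * a * c⁻¹ = a := by
    have := mem_centralizer_singleton_iff.mp (h.toTwo.cent_ws_le h.pr.symm hc)
    rw [this, mul_inv_cancel_right]
  have hcb : c * b * c⁻¹ = b := by
    have := mem_centralizer_singleton_iff.mp (h.toTwo.cent_ws_le h.rq hc)
    rw [this, mul_inv_cancel_right]
  have h1 : c * d * c⁻¹ ∈ rr V a b := by
    have := conj_mem_cj (g := c) hd
    rwa [cj_rr, hca, hcb] at this
  rcases h.fr.kq_cases' h.rq.right hk (h.rr_le hd).2 with e | e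
  · exact comm_of_conj_eq e
  · exfalso
    rw [e] at h1
    have h2 := mul_mem h1 (inv_mem hd)
    rw [mul_inv_cancel_right] at h2
    exact h.not_mem_rr' h2

/-- `C_G(W_r)` normalises `W_b`, `K_b`, `C_G(W_r) ∩ K_b` -/
theorem cent_norm_inf (h : Two T V z) (hrb : Col V r b) :
    centralizer (ws V r : Set G) ≤
      normalizer ((centralizer (ws V r : Set G) ⊓ kq V b : Subgroup G) : Set G) := by
  refine le_normalizer_of_forall fun c hc k hk => ?_
  exact ⟨conj_mem_cent hc hk.1, conj_mem_of_normalizer (centralizer_le_normalizer_kq V b)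
    (h.cent_ws_le hrb hc) hk.2⟩

/-- (1) `C_G(W_r) ∩ K_b` centralises `E_br` -/
theorem cent_comm (h : Two T V z) (hrb : Col V r b) {c : G} (hc : c ∈ centralizer (ws V r : Set G))
    (hk : c ∈ kq V b) : ∀ e ∈ ⁅ws V b, uu V r⁆, c * e = e * c := by
  set X := centralizer (ws V r : Set G) ⊓ kq V b with hX
  have hF : uu V r ≤ normalizer ((centralizer (X : Set G) : Subgroup G) : Set G) :=
    (h.uu_le_cent r).trans ((cent_norm_inf h hrb).trans (normalizer_le_normalizer_centralizer _))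
  have key : ⁅ws V b, uu V r⁆ ≤ centralizer (X : Set G) := by
    refine commutator_uu_le hF fun w hw y hy u hu => ?_
    rw [mem_centralizer_iff]
    intro k hk
    by_cases hcom : Com V y b
    · have : w * u * w⁻¹ * u⁻¹ = 1 := by
        rw [← hcom u hu w hw]; group
      rw [this, mul_one, one_mul]
    · have hm : Mid T V z y r b := { h with pr := hy.symm, rq := hrb, ne := hcom }
      refine hm.cent_rr hk.1 hk.2 _ ?_
      rw [rr_comm]
      exact comm_mem_rr hw hu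
  intro e he
  exact (mem_centralizer_iff.mp (key he) c ⟨hc, hk⟩)

/-- the calculation of (2): `m ∈ W_b` centralised by `[c, K_b ∩ C(r)]`, then `[m, c] ∈ ⟨r⟩ N_b` -/
theorem comm_mem_mm_aux (h : Two T V z) (hrb : Col V r b) {c m : G} (hc : c ∈ centralizer (ws V r : Set G))
    (hm : m ∈ ws V b)
    (hcm : ∀ k ∈ kq V b, k * r = r * k → (k⁻¹ * c⁻¹ * k * c) * m = m * (k⁻¹ * c⁻¹ * k * c)) :
    m * c * m⁻¹ * c⁻¹ ∈ mm V r b := by
  have hcb := mem_centralizer_singleton_iff.mp (h.cent_ws_le hrb hc)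
  have hcW : ∀ w ∈ ws V b, c * w * c⁻¹ ∈ ws V b := fun w hw =>
    conj_mem_of_normalizer (centralizer_le_normalizer_ws V b) (h.cent_ws_le hrb hc) hw
  have hvW : m * c * m⁻¹ * c⁻¹ ∈ ws V b := by
    have e : m * c * m⁻¹ * c⁻¹ = m * (c * m⁻¹ * c⁻¹) := by group
    rw [e]
    exact mul_mem hm (hcW _ (inv_mem hm))
  have hrW : r ∈ ws V b := h.fr.mem_ws_of_col hrb.symm
  refine (h.fr.dw hrb.right).dual (U := zpowers r) (by rwa [zpowers_le]) hvW fun k hk hkr => ?_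
  have hkr' := hkr r (mem_zpowers r)
  have hkb : k * b = b * k := mem_centralizer_singleton_iff.mp (kq_le_centralizer V b hk)
  set t := k⁻¹ * c⁻¹ * k * c with ht
  have htm := hcm k hk hkr'
  -- `k c = c k t`... : `c⁻¹ k c = k t`
  have e1 : c⁻¹ * k * c = k * t := by rw [ht]; group
  have e2 : k * (c * m * c⁻¹) * k⁻¹ = c * (k * m * k⁻¹) * c⁻¹ := by
    calc k * (c * m * c⁻¹) * k⁻¹ = c * ((c⁻¹ * k * c) * m * (c⁻¹ * k * c)⁻¹) * c⁻¹ := by group
      _ = c * (k * (t * m * t⁻¹) * k⁻¹) * c⁻¹ := by rw [e1]; group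
      _ = c * (k * m * k⁻¹) * c⁻¹ := by rw [conj_eq_of_comm htm]
  have e3 : m * c * m⁻¹ * c⁻¹ = m * (c * m * c⁻¹)⁻¹ := by group
  rw [e3]
  rcases h.fr.kq_cases' hrb.right hk hm with e | e
  · rw [e] at e2
    exact comm_mul_of (comm_of_conj_eq e) (comm_inv_of (comm_of_conj_eq e2))
  · rw [e] at e2
    have e4 : c * (b * m) * c⁻¹ = b * (c * m * c⁻¹) := by
      calc c * (b * m) * c⁻¹ = (c * b) * m * c⁻¹ := by group
        _ = (b * c) * m * c⁻¹ := by rw [hcb]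
        _ = b * (c * m * c⁻¹) := by group
    rw [e4] at e2
    refine comm_of_conj_eq ?_
    have hbb := h.fr.pt_sq hrb.right
    have hbW : b ∈ ws V b := h.fr.mem_ws_self hrb.right
    have hcomm := h.fr.ws_comm hrb.right
    calc k * (m * (c * m * c⁻¹)⁻¹) * k⁻¹ = (k * m * k⁻¹) * (k * (c * m * c⁻¹) * k⁻¹)⁻¹ := by group
      _ = b * m * (b * (c * m * c⁻¹))⁻¹ := by rw [e, e2]
      _ = b * (m * (c * m * c⁻¹)⁻¹) * b⁻¹ := by group
      _ = m * (c * m * c⁻¹)⁻¹ := by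
        rw [hcomm b hbW _ (mul_mem hm (inv_mem (hcW m hm))), mul_inv_cancel_right]

/-- (2) `[E_br, C_G(W_r)] ≤ ⟨r⟩ N_b` -/
theorem comm_mem_mm (h : Two T V z) (hrb : Col V r b) {c e : G} (hc : c ∈ centralizer (ws V r : Set G))
    (he : e ∈ ⁅ws V b, uu V r⁆) : e * c * e⁻¹ * c⁻¹ ∈ mm V r b := by
  refine comm_mem_mm_aux h hrb hc (commutator_le_ws h hrb he) fun k hk hkr => ?_
  have h1 : k⁻¹ * c⁻¹ * k * c ∈ centralizer (ws V r : Set G) := by
    refine mul_mem ?_ hc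
    have h2 := conj_mem_of_normalizer' ((centralizer_le_normalizer_ws V r).trans
      (normalizer_le_normalizer_centralizer _)) (mem_centralizer_singleton_iff.mpr hkr) (inv_mem hc)
    exact h2
  have h2 : k⁻¹ * c⁻¹ * k * c ∈ kq V b := by
    have h3 := conj_mem_of_normalizer' (centralizer_le_normalizer_kq V b) (h.cent_ws_le hrb hc) hk
    have e : k⁻¹ * c⁻¹ * k * c = k⁻¹ * (c⁻¹ * k * c) := by group
    rw [e]
    exact mul_mem (inv_mem hk) h3
  exact cent_comm h hrb h1 h2 e he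

/-! ### (3) -/

/-- `N_b = ⟨b⟩` for all points -/
def NB (V : Subgroup G) : Prop := ∀ b : G, Col V b b → nn (ws V b) (kq V b) ≤ zpowers b

/-- `{v ∈ C_r : [v, C_r] ≤ ⟨r⟩}`, `C_r = C_G(W_r)` -/
def e2 (V : Subgroup G) (r : G) : Subgroup G where
  carrier := {v | v ∈ centralizer (ws V r : Set G) ∧ v ∈ centralizer ({r} : Set G) ∧
    ∀ c ∈ centralizer (ws V r : Set G), v * c * v⁻¹ * c⁻¹ ∈ zpowers r}
  mul_mem' := by
    rintro u v ⟨hu, hur, hu1⟩ ⟨hv, hvr, hv1⟩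
    refine ⟨mul_mem hu hv, mul_mem hur hvr, fun c hc => ?_⟩
    have e : u * v * c * (u * v)⁻¹ * c⁻¹ = u * (v * c * v⁻¹ * c⁻¹) * u⁻¹ * (u * c * u⁻¹ * c⁻¹) := by group
    rw [e]
    refine mul_mem ?_ (hu1 c hc)
    obtain ⟨n, hn⟩ := mem_zpowers_iff.mp (hv1 c hc)
    have h2 : u * r ^ n * u⁻¹ = r ^ n := by
      have h3 : Commute u r := mem_centralizer_singleton_iff.mp hur
      rw [(h3.zpow_right n).eq, mul_inv_cancel_right]
    rw [← hn, h2]
    exact zpow_mem (mem_zpowers r) n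
  one_mem' := ⟨one_mem _, one_mem _, fun c _ => by simp⟩
  inv_mem' := by
    rintro u ⟨hu, hur, hu1⟩
    refine ⟨inv_mem hu, inv_mem hur, fun c hc => ?_⟩
    have e : u⁻¹ * c * u⁻¹⁻¹ * c⁻¹ = u⁻¹ * (u * c * u⁻¹ * c⁻¹)⁻¹ * u := by group
    rw [e]
    obtain ⟨n, hn⟩ := mem_zpowers_iff.mp (hu1 c hc)
    have h2 : u⁻¹ * (r ^ n)⁻¹ * u = (r ^ n)⁻¹ := by
      have h3 : Commute u r := mem_centralizer_singleton_iff.mp hur
      rw [mul_assoc, ((h3.zpow_right n).inv_right.eq).symm, inv_mul_cancel_left]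
    rw [← hn, h2]
    exact inv_mem (zpow_mem (mem_zpowers r) n)

omit [Finite G] in
theorem mem_e2 {v : G} : v ∈ e2 V r ↔ v ∈ centralizer (ws V r : Set G) ∧ v ∈ centralizer ({r} : Set G) ∧
    ∀ c ∈ centralizer (ws V r : Set G), v * c * v⁻¹ * c⁻¹ ∈ zpowers r := Iff.rfl

omit [Finite G] in
theorem norm_e2 (h : Fr T V z) (hr : Col V r r) :
    centralizer (ws V r : Set G) ≤ normalizer ((e2 V r : Subgroup G) : Set G) := by
  refine le_normalizer_of_forall fun g hg v hv => ?_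
  have hgr := cent_ws_le_self h hr hg
  refine ⟨conj_mem_cent hg hv.1, conj_mem_cent hgr hv.2.1, fun c hc => ?_⟩
  have hc' : g⁻¹ * c * g ∈ centralizer (ws V r : Set G) := by
    have := conj_mem_cent (inv_mem hg) hc
    rwa [inv_inv] at this
  have e : g * v * g⁻¹ * c * (g * v * g⁻¹)⁻¹ * c⁻¹ =
      g * (v * (g⁻¹ * c * g) * v⁻¹ * (g⁻¹ * c * g)⁻¹) * g⁻¹ := by group
  rw [e, conj_zpowers_of_comm (mem_centralizer_singleton_iff.mp hgr) (hv.2.2 _ hc')]
  exact hv.2.2 _ hc'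

theorem mem_mm_nb (h : Fr T V z) (nb : NB V) (hrb : Col V r b) {v : G} (hv : v ∈ mm V r b) :
    v = 1 ∨ v = r ∨ v = b ∨ v = r * b := by
  have hbb := h.pt_sq hrb.right
  rcases mem_mm h hrb hv with hvn | ⟨y, hy, rfl⟩
  · rcases (mem_zpowers_iff_of_mul_self hbb).mp (nb b hrb.right hvn) with e | e
    · exact Or.inl e
    · exact Or.inr (Or.inr (Or.inl e))
  · rcases (mem_zpowers_iff_of_mul_self hbb).mp (nb b hrb.right hy) with e | e
    · right; left; rw [e, mul_one]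
    · right; right; right; rw [e]

/-- an element of `W_a ∩ ⟨r⟩ N_b` lies in `⟨r⟩` -/
theorem Mid.mem_zpowers_of (h : Mid T V z a r b) {v : G} (hva : v ∈ ws V a)
    (hv : v = 1 ∨ v = r ∨ v = b ∨ v = r * b) : v ∈ zpowers r := by
  rcases hv with e | e | e | e
  · rw [e]; exact one_mem _
  · rw [e]; exact mem_zpowers r
  · exact absurd (e ▸ hva) h.not_mem'
  · exfalso
    rw [e] at hva
    have := mul_mem (inv_mem (mem_inf.mp h.r_mem).1) hva
    rw [inv_mul_cancel_left] at this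
    exact h.not_mem' this

/-- (3) for `D_ab` -/
theorem Mid.rr_le_e2 (h : Mid T V z a r b) (nb : NB V) : rr V a b ≤ e2 V r := by
  intro d hd
  have hdW := h.rr_le hd
  have h1 : d ∈ centralizer (ws V r : Set G) := h.toTwo.ws_le_cent h.pr hdW.1
  refine ⟨h1, cent_ws_le_self h.fr h.pr.right h1, fun c hc => ?_⟩
  have hd' : d ∈ ⁅ws V b, uu V r⁆ := by
    rw [commutator_comm]
    exact rr_le_commutator V h.pr.symm b hd
  have h2 := comm_mem_mm h.toTwo h.rq hc hd'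
  refine h.mem_zpowers_of ?_ (mem_mm_nb h.fr nb h.rq h2)
  have e : d * c * d⁻¹ * c⁻¹ = d * (c * d⁻¹ * c⁻¹) := by group
  rw [e]
  exact mul_mem hdW.1 (conj_mem_of_normalizer (centralizer_le_normalizer_ws V a)
    (h.toTwo.cent_ws_le h.pr.symm hc) (inv_mem hdW.1))

/-- (3) `[E_br, C_G(W_r)] ≤ ⟨r⟩` -/
theorem commutator_le_e2 (h : Two T V z) (nb : NB V) (hrb : Col V r b) : ⁅ws V b, uu V r⁆ ≤ e2 V r := by
  refine commutator_uu_le ((h.uu_le_cent r).trans (norm_e2 h.fr hrb.left)) fun w hw y hy u hu => ?_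
  by_cases hcom : Com V y b
  · have : w * u * w⁻¹ * u⁻¹ = 1 := by
      rw [← hcom u hu w hw]; group
    rw [this]
    exact one_mem _
  · have hm : Mid T V z y r b := { h with pr := hy.symm, rq := hrb, ne := hcom }
    refine hm.rr_le_e2 nb ?_
    rw [rr_comm]
    exact comm_mem_rr hw hu

theorem comm_mem_r (h : Two T V z) (nb : NB V) (hrb : Col V r b) {c e : G}
    (hc : c ∈ centralizer (ws V r : Set G)) (he : e ∈ ⁅ws V b, uu V r⁆) : e * c * e⁻¹ * c⁻¹ ∈ zpowers r :=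
  (commutator_le_e2 h nb hrb he).2.2 c hc

/-- (3) `γ₃(U_r) ≤ ⟨r⟩`, in the form `[[U_r, U_r], C_G(W_r)] ≤ ⟨r⟩` -/
theorem uu_commutator_le_e2 (h : Two T V z) (nb : NB V) (hr : Col V r r) : ⁅uu V r, uu V r⁆ ≤ e2 V r := by
  refine commutator_uu_le ((h.uu_le_cent r).trans (norm_e2 h.fr hr)) fun w hw y hy u hu => ?_
  have h1 : u * w * u⁻¹ * w⁻¹ ∈ e2 V r := by
    refine commutator_le_e2 h nb hy ?_
    rw [← commutatorElement_def]
    exact commutator_mem_commutator hu hw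
  have e : w * u * w⁻¹ * u⁻¹ = (u * w * u⁻¹ * w⁻¹)⁻¹ := by group
  rw [e]
  exact inv_mem h1

theorem gam (h : Two T V z) (nb : NB V) (hr : Col V r r) :
    ⁅⁅uu V r, uu V r⁆, centralizer (ws V r : Set G)⁆ ≤ zpowers r := by
  refine commutator_le.mpr fun w hw u hu => ?_
  rw [commutatorElement_def]
  exact (uu_commutator_le_e2 h nb hr hw).2.2 u hu

/-- (3) `r ∉ D_ab` implies `[D_ab, C_G(W_r)] = 1` -/
theorem Mid.cent_of_not_mem (h : Mid T V z a r b) (nb : NB V) (hr : r ∉ rr V a b) :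
    rr V a b ≤ centralizer ((centralizer (ws V r : Set G) : Subgroup G) : Set G) := by
  intro d hd
  rw [mem_centralizer_iff]
  intro c hc
  have hca : c * a * c⁻¹ = a := by
    have := mem_centralizer_singleton_iff.mp (h.toTwo.cent_ws_le h.pr.symm hc)
    rw [this, mul_inv_cancel_right]
  have hcb : c * b * c⁻¹ = b := by
    have := mem_centralizer_singleton_iff.mp (h.toTwo.cent_ws_le h.rq hc)
    rw [this, mul_inv_cancel_right]
  have h1 : c * d⁻¹ * c⁻¹ ∈ rr V a b := by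
    have := conj_mem_cj (g := c) (inv_mem hd)
    rwa [cj_rr, hca, hcb] at this
  have h2 : d * c * d⁻¹ * c⁻¹ ∈ rr V a b := by
    have e : d * c * d⁻¹ * c⁻¹ = d * (c * d⁻¹ * c⁻¹) := by group
    rw [e]
    exact mul_mem hd h1
  rcases (mem_zpowers_iff_of_mul_self (h.fr.pt_sq h.pr.right)).mp ((h.rr_le_e2 nb hd).2.2 c hc) with e | e
  · calc c * d = (d * c * d⁻¹ * c⁻¹)⁻¹ * (d * c) := by group
      _ = d * c := by rw [e, inv_one, one_mul]
  · exact absurd (e ▸ h2) hr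

/-! ### (4) -/

/-- `C1_br = {m ∈ W_b : [m, U_r] ≤ ⟨r⟩}` -/
def co (V : Subgroup G) (b r : G) : Subgroup G where
  carrier := {m | m ∈ ws V b ∧ m ∈ centralizer ({r} : Set G) ∧ ∀ u ∈ uu V r, m * u * m⁻¹ * u⁻¹ ∈ zpowers r}
  mul_mem' := by
    rintro u v ⟨hu, hur, hu1⟩ ⟨hv, hvr, hv1⟩
    refine ⟨mul_mem hu hv, mul_mem hur hvr, fun c hc => ?_⟩
    have e : u * v * c * (u * v)⁻¹ * c⁻¹ = u * (v * c * v⁻¹ * c⁻¹) * u⁻¹ * (u * c * u⁻¹ * c⁻¹) := by group
    rw [e, conj_zpowers_of_comm (mem_centralizer_singleton_iff.mp hur) (hv1 c hc)]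
    exact mul_mem (hv1 c hc) (hu1 c hc)
  one_mem' := ⟨one_mem _, one_mem _, fun c _ => by simp⟩
  inv_mem' := by
    rintro u ⟨hu, hur, hu1⟩
    refine ⟨inv_mem hu, inv_mem hur, fun c hc => ?_⟩
    have e : u⁻¹ * c * u⁻¹⁻¹ * c⁻¹ = u⁻¹ * (u * c * u⁻¹ * c⁻¹)⁻¹ * u⁻¹⁻¹ := by group
    rw [e, conj_zpowers_of_comm (mem_centralizer_singleton_iff.mp (inv_mem hur)) (inv_mem (hu1 c hc))]
    exact inv_mem (hu1 c hc)

omit [Finite G] in
theorem mem_co {m : G} : m ∈ co V b r ↔ m ∈ ws V b ∧ m ∈ centralizer ({r} : Set G) ∧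
    ∀ u ∈ uu V r, m * u * m⁻¹ * u⁻¹ ∈ zpowers r := Iff.rfl

omit [Finite G] in
theorem co_le (V : Subgroup G) (b r : G) : co V b r ≤ ws V b := fun _ hm => hm.1

omit [Finite G] in
theorem zpowers_norm {H : Subgroup G} (hH : H ≤ centralizer ({r} : Set G)) :
    H ≤ normalizer ((zpowers r : Subgroup G) : Set G) := by
  refine le_normalizer_of_forall fun g hg v hv => ?_
  rwa [conj_zpowers_of_comm (mem_centralizer_singleton_iff.mp (hH hg)) hv]

/-- (4): `m ∈ W_b`, `[m, U_r] ⊆ {1, r, b, rb}` implies `[m, U_r] ≤ ⟨r⟩` -/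
theorem co_of_mod (h : Two T V z) (hrb : Col V r b) {m : G} (hm : m ∈ ws V b)
    (hmod : ∀ y, Col V r y → ∀ u ∈ ws V y, m * u * m⁻¹ * u⁻¹ = 1 ∨ m * u * m⁻¹ * u⁻¹ = r ∨
      m * u * m⁻¹ * u⁻¹ = b ∨ m * u * m⁻¹ * u⁻¹ = r * b) : m ∈ co V b r := by
  have hmr : m ∈ centralizer ({r} : Set G) :=
    cent_ws_le_self h.fr hrb.left (h.ws_le_cent hrb.symm hm)
  refine ⟨hm, hmr, fun u hu => ?_⟩
  refine comm_uu_le (W := {m}) (F := zpowers r) (zpowers_norm ((h.uu_le_cent r).trans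
    (cent_ws_le_self h.fr hrb.left))) ?_ m rfl u hu
  rintro w rfl y hy u hu
  by_cases hcom : Com V y b
  · have : w * u * w⁻¹ * u⁻¹ = 1 := by
      rw [← hcom u hu w hm]; group
    rw [this]
    exact one_mem _
  · have hM : Mid T V z y r b := { h with pr := hy.symm, rq := hrb, ne := hcom }
    exact hM.mem_zpowers_of (hM.symm.comm_mem hm hu).2 (hmod y hy u hu)

/-- (4): `m ∈ W_b`, `[m, U_r] ≤ ⟨b⟩` implies `[m, U_r] = 1` -/
theorem cent_of_mod (h : Two T V z) (hrb : Col V r b) {m : G} (hm : m ∈ ws V b)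
    (hmod : ∀ y, Col V r y → ∀ u ∈ ws V y, m * u * m⁻¹ * u⁻¹ ∈ zpowers b) :
    m ∈ centralizer (uu V r : Set G) := by
  have key : uu V r ≤ centralizer ({m} : Set G) := by
    refine uu_le fun y hy u hu => ?_
    rw [mem_centralizer_singleton_iff]
    by_cases hcom : Com V y b
    · exact hcom u hu m hm
    · have hM : Mid T V z y r b := { h with pr := hy.symm, rq := hrb, ne := hcom }
      have h1 := mem_centralizer_iff.mp (hM.symm.comm_of_mod hm (fun u hu => hmod y hy u hu)) u hu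
      exact h1
  rw [mem_centralizer_iff]
  exact fun u hu => mem_centralizer_singleton_iff.mp (key hu)

theorem eq_one_of_zpowers (h : Fr T V z) (hrb : Col V r b) (hne : r ≠ b) {c : G} (h1 : c ∈ zpowers r)
    (h2 : c ∈ zpowers b) : c = 1 := by
  rcases (mem_zpowers_iff_of_mul_self (h.pt_sq hrb.left)).mp h1 with e | e
  · exact e
  · rcases (mem_zpowers_iff_of_mul_self (h.pt_sq hrb.right)).mp h2 with e' | e'
    · exact e'
    · exact absurd (e.symm.trans e') hne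

/-- (4) `C_{W_b}(U_r ∩ K_b) = C1_br` -/
theorem mem_co_iff (h : Two T V z) (nb : NB V) (hrb : Col V r b) (hne : r ≠ b) {m : G} (hm : m ∈ ws V b) :
    (∀ c ∈ uu V r, c ∈ kq V b → c * m = m * c) ↔ m ∈ co V b r := by
  constructor
  · intro hc
    refine co_of_mod h hrb hm fun y hy u hu => ?_
    have hu' := ws_le_uu hy hu
    refine mem_mm_nb h.fr nb hrb (comm_mem_mm_aux h hrb (h.uu_le_cent r hu') hm fun k hk hkr => ?_)
    refine hc _ ?_ ?_
    · have h2 := conj_mem_of_normalizer' (centralizer_le_normalizer_uu V r)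
        (mem_centralizer_singleton_iff.mpr hkr) (inv_mem hu')
      exact mul_mem h2 hu'
    · have h3 := conj_mem_of_normalizer' (centralizer_le_normalizer_kq V b)
        (h.cent_ws_le hrb (h.uu_le_cent r hu')) hk
      have e : k⁻¹ * u⁻¹ * k * u = k⁻¹ * (u⁻¹ * k * u) := by group
      rw [e]
      exact mul_mem (inv_mem hk) h3
  · intro hmc c hc hcK
    have h1 := hmc.2.2 c hc
    have h2 : m * c * m⁻¹ * c⁻¹ ∈ zpowers b := by
      have e : m * c * m⁻¹ * c⁻¹ = (c * m * c⁻¹ * m⁻¹)⁻¹ := by group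
      rw [e]
      exact inv_mem (kq_comm hcK hm)
    have h3 := eq_one_of_zpowers h.fr hrb hne h1 h2
    calc c * m = (m * c * m⁻¹ * c⁻¹)⁻¹ * (m * c) := by group
      _ = m * c := by rw [h3, inv_one, one_mul]

/-- (4) movers in `U_r ∩ K_b` for `m ∉ C1_br` -/
theorem exists_mover_uu (h : Two T V z) (nb : NB V) (hrb : Col V r b) (hne : r ≠ b) {m : G}
    (hm : m ∈ ws V b) (hmc : m ∉ co V b r) : ∃ c ∈ uu V r, c ∈ kq V b ∧ c * m * c⁻¹ = b * m := by
  by_contra hcon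
  push Not at hcon
  refine hmc ((mem_co_iff h nb hrb hne hm).mp fun c hc hcK => ?_)
  exact comm_of_conj_eq ((h.fr.kq_cases' hrb.right hcK hm).resolve_right (hcon c hc hcK))

/-- `E_br ≤ C1_br` -/
theorem commutator_le_co (h : Two T V z) (nb : NB V) (hrb : Col V r b) : ⁅ws V b, uu V r⁆ ≤ co V b r := by
  intro e he
  have h1 := commutator_le_e2 h nb hrb he
  exact ⟨commutator_le_ws h hrb he, h1.2.1, fun u hu => h1.2.2 u (h.uu_le_cent r hu)⟩

/-! ### (5), (6) -/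

/-- (5) a critical `(x, r)` with middle `b`: `b ∈ D_xr` or `D_xr ∩ W_b = 1` -/
theorem Mid.five (h : Mid T V z x b r) (nb : NB V) (hb : b ∉ rr V x r) : rr V x r ⊓ ws V b ≤ ⊥ := by
  rintro d ⟨hd, hdb⟩
  have hxW : x ∈ ws V b := h.fr.mem_ws_of_col h.pr.symm
  have hrW : r ∈ ws V b := h.fr.mem_ws_of_col h.rq
  have hbp := h.pr.right
  have h1 : d ∈ closure {x, r} ⊔ nn (ws V b) (kq V b) := by
    refine (h.fr.dw hbp).dual (U := closure {x, r}) ?_ hdb fun k hk hkU => ?_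
    · rw [closure_le]
      rintro y (rfl | rfl)
      · exact hxW
      · exact hrW
    · have hkx := hkU x (subset_closure (Or.inl rfl))
      have hkr := hkU r (subset_closure (Or.inr rfl))
      have h2 : k * d * k⁻¹ ∈ rr V x r := by
        have := conj_mem_cj (g := k) hd
        rwa [cj_rr, hkx, hkr, mul_inv_cancel_right, mul_inv_cancel_right] at this
      rcases h.fr.kq_cases' hbp hk hdb with e | e
      · exact comm_of_conj_eq e
      · exfalso
        rw [e] at h2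
        have := mul_mem h2 (inv_mem hd)
        rw [mul_inv_cancel_right] at this
        exact hb this
  have hcomm := h.fr.ws_comm hbp
  have hle : closure {x, r} ≤ zpowers x ⊔ zpowers r := by
    rw [closure_le]
    rintro y (rfl | rfl)
    · exact mem_sup_left (mem_zpowers _)
    · exact mem_sup_right (mem_zpowers _)
  have hxz : zpowers x ≤ ws V b := by rwa [zpowers_le]
  have hrz : zpowers r ≤ ws V b := by rwa [zpowers_le]
  obtain ⟨s, hs, n, hn, rfl⟩ := mem_sup_of_comm hcomm ((closure_le (ws V b)).mpr (by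
    rintro y (rfl | rfl)
    · exact hxW
    · exact hrW)) inf_le_left h1
  obtain ⟨i, hi, j, hj, rfl⟩ := mem_sup_of_comm hcomm hxz hrz (hle hs)
  have hdW := mem_inf.mp (h.rr_le hd)
  have hbx : b ∈ ws V x := (mem_inf.mp h.r_mem).1
  have hbr : b ∈ ws V r := (mem_inf.mp h.r_mem).2
  have hrr : r ∈ ws V r := h.fr.mem_ws_self h.rq.right
  have hnb := nb b hbp hn
  have hnx : n ∈ ws V x := zpowers_le.mpr hbx hnb
  have hnr : n ∈ ws V r := zpowers_le.mpr hbr hnb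
  have hjr : j ∈ ws V r := zpowers_le.mpr hrr hj
  -- `i = 1`
  have hi1 : i = 1 := by
    have h2 : i ∈ ws V r := by
      have := mul_mem (mul_mem hdW.2 (inv_mem hnr)) (inv_mem hjr)
      rwa [mul_inv_cancel_right, mul_inv_cancel_right] at this
    exact h.eq_one_of_mem hi h2
  subst hi1
  have hj1 : j = 1 := by
    have h2 : j ∈ ws V x := by
      have := mul_mem hdW.1 (inv_mem hnx)
      rwa [mul_inv_cancel_right, one_mul] at this
    exact h.symm.eq_one_of_mem hj h2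
  subst hj1
  rw [one_mul, one_mul] at hd ⊢
  rw [mem_bot]
  rcases (mem_zpowers_iff_of_mul_self (h.fr.pt_sq hbp)).mp hnb with e | e
  · exact e
  · exact absurd (e ▸ hd) hb

/-- (6) `x ~ b ~ r`, `x ∉ C1_br`: `[W_x, W_r] = 1` or `D_xr ≤ W_b` -/
theorem inner_of_not_mem (h : Two T V z) (nb : NB V) (hxb : Col V x b) (hrb : Col V r b) (hne : r ≠ b)
    (hx : x ∉ co V b r) : Com V x r ∨ rr V x r ≤ ws V b := by
  by_cases hcom : Com V x r
  · exact Or.inl hcom
  right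
  have hM : Mid T V z x b r := { h with pr := hxb, rq := hrb.symm, ne := hcom }
  obtain ⟨e, he, heK, hex⟩ := exists_mover_uu h nb hrb hne (h.fr.mem_ws_of_col hxb.symm) hx
  intro d hd
  have hdW := hM.rr_le hd
  have hed : e * d * e⁻¹ = d := by
    have := mem_centralizer_iff.mp (h.uu_le_cent r he) d hdW.2
    rw [← this, mul_inv_cancel_right]
  have h1 : d ∈ ws V (b * x) := by
    have := conj_mem_ws e hdW.1
    rwa [hed, hex] at this
  exact h.fr.inf_mul_le hxb.symm hM.ne_pr ⟨hdW.1, h1⟩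

/-- (6): an inner critical pair `(x, r)` has `b ∈ D_xr` -/
theorem Mid.mem_of_inner (h : Mid T V z x b r) (nb : NB V) (hin : rr V x r ≤ ws V b) : b ∈ rr V x r := by
  by_contra hb
  exact h.rr_ne_bot (le_bot_iff.mp ((le_inf le_rfl hin).trans (h.five nb hb)))

end

end Cfsg.Agent.Omega.NO3S.TwoMid
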