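import Cfsg.Agent.Omega.NO3S.TypeN.McL

/-!
# THEOREMS TQ and TQ' (helper935), abstract form

`H` acts on the elementary abelian 2-group `M`, `Om` is an `H`-orbit generating `M`, `Q w` (`w ∈ Om`) an equivariant family
of 2-groups (modulo `C_H(M)`) fixing `w`.  (`H` has no normal subgroup of involutions on `M`.)

* `Dat.tq` : if all `Q w` are quadratic on `M` and some `Q w` contains a transvection with centre `w`, then
  `[M, Q w] ≤ ⟨w⟩` for all `w ∈ Om`;
* `Dat.tqBig` : the same without 'quadratic', if some `Q w` contains two different transvections with centre `w`.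

Uses the elementary McLaughlin theorems of helper60 (`TypeN/McL.lean`).
-/

set_option autoImplicit false
set_option linter.unusedSectionVars false

namespace Cfsg.Agent.Omega.NO3S.TwoMid.TQ

open Subgroup
open Cfsg.Agent.Omega.NO3S.TypeN (Sys zmod_two_cases zmod_two_add)

universe u v

variable {H : Type u} {M : Type v} [Group H] [Group M] [MulDistribMulAction H M]

/-- `t` acts like a transvection with centre `w` (or trivially) -/
def Tv (w : M) (t : H) : Prop := ∀ m : M, t • m = m ∨ t • m = w * m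

structure Dat (Om : Set M) (Q : M → Subgroup H) : Prop where
  comm : ∀ a b : M, a * b = b * a
  sq : ∀ a : M, a * a = 1
  ne : ∀ w ∈ Om, w ≠ 1
  smul : ∀ h : H, ∀ w ∈ Om, h • w ∈ Om
  trans : ∀ w ∈ Om, ∀ w' ∈ Om, ∃ h : H, h • w = w'
  span : closure Om = ⊤
  conj : ∀ h : H, ∀ w ∈ Om, ∀ g ∈ Q w, h * g * h⁻¹ ∈ Q (h • w)
  fix : ∀ w ∈ Om, ∀ g ∈ Q w, g • w = w
  two : ∀ w ∈ Om, ∀ g ∈ Q w, ∃ k : ℕ, ∀ m : M, g ^ 2 ^ k • m = m
  o2 : ∀ N : Subgroup H, (∀ h, ∀ n ∈ N, h * n * h⁻¹ ∈ N) → (∀ n ∈ N, ∀ m : M, n • (n • m) = m) →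
    ∀ n ∈ N, ∀ m : M, n • m = m
  tv : ∃ w ∈ Om, ∃ t ∈ Q w, Tv w t ∧ ∃ m : M, t • m ≠ m

/-- all `Q w` are quadratic -/
def Quad (Om : Set M) (Q : M → Subgroup H) : Prop :=
  ∀ w ∈ Om, ∀ g ∈ Q w, ∀ g' ∈ Q w, ∀ m : M, g' • (g • m * m⁻¹) = g • m * m⁻¹

open Classical in
/-- the functional of `t` -/
noncomputable def fn (t : H) : M → ZMod 2 := fun m => if t • m = m then 0 else 1

/-- the functionals of the transvections in `Q w` with centre `w` -/
def ps (Q : M → Subgroup H) (w : M) : Set (M → ZMod 2) := {φ | ∃ t ∈ Q w, Tv w t ∧ φ = fn t}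

theorem fn_eq_zero {t : H} {m : M} : fn t m = 0 ↔ t • m = m := by
  unfold fn
  constructor
  · intro h
    by_contra hn
    rw [if_neg hn] at h
    exact absurd h (by decide)
  · intro h
    rw [if_pos h]

theorem Tv.eq_of_one {w : M} {t : H} (ht : Tv w t) {m : M} (h : fn t m = 1) : t • m = w * m := by
  rcases ht m with e | e
  · rw [fn_eq_zero.mpr e] at h
    exact absurd h (by decide)
  · exact e

theorem fn_eq_one {w : M} {t : H} (hw : w ≠ 1) {m : M} (h : t • m = w * m) : fn t m = 1 := by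
  rcases zmod_two_cases (fn t m) with e | e
  · rw [fn_eq_zero, h] at e
    exact absurd (mul_eq_right.mp e) hw
  · exact e

theorem fn_conj (h t : H) (m : M) : fn (h * t * h⁻¹) m = fn t (h⁻¹ • m) := by
  rcases zmod_two_cases (fn t (h⁻¹ • m)) with e | e
  · rw [e, fn_eq_zero]
    rw [fn_eq_zero] at e
    rw [mul_smul, mul_smul, e, smul_inv_smul]
  · rw [e]
    rcases zmod_two_cases (fn (h * t * h⁻¹) m) with e' | e'
    · exfalso
      rw [fn_eq_zero, mul_smul, mul_smul] at e'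
      have h1 : t • h⁻¹ • m = h⁻¹ • m := by
        rw [← inv_smul_smul h (t • h⁻¹ • m), e']
      rw [fn_eq_zero.mpr h1] at e
      exact absurd e (by decide)
    · exact e'

theorem Tv.conj {w : M} {t : H} (ht : Tv w t) (h : H) : Tv (h • w) (h * t * h⁻¹) := by
  intro m
  rcases ht (h⁻¹ • m) with e | e
  · left
    rw [mul_smul, mul_smul, e, smul_inv_smul]
  · right
    rw [mul_smul, mul_smul, e, smul_mul', smul_inv_smul]

/-- the map induced on functionals -/
def tws (h : H) (φ : M → ZMod 2) : M → ZMod 2 := fun m => φ (h⁻¹ • m)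

theorem tws_inj (h : H) : Function.Injective (tws (M := M) h) := by
  intro φ ψ e
  funext m
  have := congrFun e (h • m)
  unfold tws at this
  rwa [inv_smul_smul] at this

namespace Dat

variable {Om : Set M} {Q : M → Subgroup H} (D : Dat Om Q)

include D

theorem inv_eq (a : M) : a⁻¹ = a := inv_eq_of_mul_eq_one_left (D.sq a)

theorem mul_mul_cancel' (a b : M) : a * (a * b) = b := by rw [← mul_assoc, D.sq, one_mul]

theorem fn_add {w : M} (hw : w ∈ Om) {t : H} (ht : Tv w t) (m m' : M) : fn t (m * m') = fn t m + fn t m' := by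
  have hw1 := D.ne w hw
  rcases ht m with e | e <;> rcases ht m' with e' | e'
  · rw [fn_eq_zero.mpr e, fn_eq_zero.mpr e', fn_eq_zero.mpr (by rw [smul_mul', e, e']), add_zero]
  · rw [fn_eq_zero.mpr e, fn_eq_one hw1 e', zero_add]
    refine fn_eq_one hw1 ?_
    rw [smul_mul', e, e', ← mul_assoc, D.comm m w, mul_assoc]
  · rw [fn_eq_one hw1 e, fn_eq_zero.mpr e', add_zero]
    refine fn_eq_one hw1 ?_
    rw [smul_mul', e, e', mul_assoc]
  · rw [fn_eq_one hw1 e, fn_eq_one hw1 e', zmod_two_add, fn_eq_zero, smul_mul', e, e']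
    rw [D.comm w m, mul_assoc, D.mul_mul_cancel']

theorem tv_mul {w : M} (hw : w ∈ Om) {t s : H} (ht : Tv w t) (hs : Tv w s) (htw : t • w = w) : Tv w (t * s) := by
  intro m
  rcases hs m with e | e <;> rcases ht m with e' | e'
  · left; rw [mul_smul, e, e']
  · right; rw [mul_smul, e, e']
  · right; rw [mul_smul, e, smul_mul', htw, e']
  · left; rw [mul_smul, e, smul_mul', htw, e', D.mul_mul_cancel']

theorem fn_mul {w : M} (hw : w ∈ Om) {t s : H} (ht : Tv w t) (hs : Tv w s) (htw : t • w = w) :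
    fn (t * s) = (fn t + fn s : M → ZMod 2) := by
  have hw1 := D.ne w hw
  funext m
  show _ = fn t m + fn s m
  rcases hs m with e | e <;> rcases ht m with e' | e'
  · rw [fn_eq_zero.mpr e, fn_eq_zero.mpr e', add_zero, fn_eq_zero, mul_smul, e, e']
  · rw [fn_eq_zero.mpr e, fn_eq_one hw1 e', add_zero]
    exact fn_eq_one hw1 (by rw [mul_smul, e, e'])
  · rw [fn_eq_one hw1 e, fn_eq_zero.mpr e', zero_add]
    exact fn_eq_one hw1 (by rw [mul_smul, e, smul_mul', htw, e'])
  · rw [fn_eq_one hw1 e, fn_eq_one hw1 e', zmod_two_add, fn_eq_zero, mul_smul, e, smul_mul', htw, e',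
      D.mul_mul_cancel']

/-- `t⁻¹` acts as `t` -/
theorem inv_smul {w : M} (hw : w ∈ Om) {t : H} (ht : Tv w t) (htw : t • w = w) (m : M) : t⁻¹ • m = t • m := by
  have h1 : t • (t • m) = m := by
    rcases ht m with e | e
    · rw [e, e]
    · rw [e, smul_mul', htw, e, D.mul_mul_cancel']
  rw [← inv_smul_smul t (t • m), h1]

theorem ps_smul (h : H) {w : M} (hw : w ∈ Om) : ps Q (h • w) = tws h '' ps Q w := by
  ext φ
  constructor
  · rintro ⟨t, ht, htv, rfl⟩
    refine ⟨fn (h⁻¹ * t * h), ⟨h⁻¹ * t * h, ?_, ?_, rfl⟩, ?_⟩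
    · have := D.conj h⁻¹ _ (D.smul h w hw) t ht
      rwa [inv_inv, inv_smul_smul] at this
    · have := htv.conj h⁻¹
      rwa [inv_inv, inv_smul_smul] at this
    · funext m
      show fn (h⁻¹ * t * h) (h⁻¹ • m) = _
      rw [← fn_conj]
      congr 1
      group
  · rintro ⟨_, ⟨t, ht, htv, rfl⟩, rfl⟩
    refine ⟨h * t * h⁻¹, D.conj h w hw t ht, htv.conj h, ?_⟩
    funext m
    exact (fn_conj h t m).symm

theorem self_zero {w : M} (hw : w ∈ Om) {φ : M → ZMod 2} (hφ : φ ∈ ps Q w) : φ w = 0 := by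
  obtain ⟨t, ht, -, rfl⟩ := hφ
  exact fn_eq_zero.mpr (D.fix w hw t ht)

theorem ps_add {w : M} (hw : w ∈ Om) {φ : M → ZMod 2} (hφ : φ ∈ ps Q w) (m m' : M) : φ (m * m') = φ m + φ m' := by
  obtain ⟨t, -, ht, rfl⟩ := hφ
  exact D.fn_add hw ht m m'

theorem ps_one {w : M} (hw : w ∈ Om) {φ : M → ZMod 2} (hφ : φ ∈ ps Q w) : φ 1 = 0 := by
  obtain ⟨t, -, ht, rfl⟩ := hφ
  exact fn_eq_zero.mpr (smul_one t)

/-- two functionals which agree on `Om` are equal -/
theorem ps_ext {w w' : M} (hw : w ∈ Om) (hw' : w' ∈ Om) {φ ψ : M → ZMod 2} (hφ : φ ∈ ps Q w) (hψ : ψ ∈ ps Q w')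
    (h : ∀ x ∈ Om, φ x = ψ x) : φ = ψ := by
  funext m
  have hm : m ∈ closure Om := by rw [D.span]; exact mem_top m
  induction hm using closure_induction with
  | mem x hx => exact h x hx
  | one => rw [D.ps_one hw hφ, D.ps_one hw' hψ]
  | mul x y _ _ h1 h2 => rw [D.ps_add hw hφ, D.ps_add hw' hψ, h1, h2]
  | inv x _ h1 => rwa [D.inv_eq]

theorem exists_ne {w : M} (hw : w ∈ Om) : ∃ φ ∈ ps Q w, φ ≠ 0 := by
  obtain ⟨w', hw', t, ht, htv, m, hm⟩ := D.tv
  obtain ⟨h, rfl⟩ := D.trans w' hw' w hw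
  refine ⟨tws h (fn t), ?_, fun e => hm ?_⟩
  · rw [D.ps_smul h hw']
    exact ⟨_, ⟨t, ht, htv, rfl⟩, rfl⟩
  · have := congrFun e (h • m)
    unfold tws at this
    rw [inv_smul_smul] at this
    exact fn_eq_zero.mp this

theorem exists_one {w : M} (hw : w ∈ Om) {φ : M → ZMod 2} (hφ : φ ∈ ps Q w) (hne : φ ≠ 0) : ∃ d ∈ Om, φ d = 1 := by
  by_contra hcon
  push Not at hcon
  apply hne
  have h0 : (0 : M → ZMod 2) ∈ ps Q w := by
    refine ⟨1, one_mem _, fun m => Or.inl (one_smul H m), ?_⟩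
    funext m
    exact (fn_eq_zero.mpr (one_smul H m)).symm
  refine D.ps_ext hw hw hφ h0 fun x hx => ?_
  exact (zmod_two_cases (φ x)).resolve_right (hcon x hx)

/-- the conjugate of `t` (centre `a`) by `s` (centre `b`) -/
theorem conj_fn {a b : M} (ha : a ∈ Om) (hb : b ∈ Om) {t s : H} (ht : Tv a t) (hs : Tv b s)
    (hsQ : s ∈ Q b) (m : M) : fn (s * t * s⁻¹) m = fn t m + (if fn s m = 1 then fn t b else 0) := by
  rw [fn_conj, D.inv_smul hb hs (D.fix b hb s hsQ)]
  rcases hs m with e | e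
  · rw [e, fn_eq_zero.mpr e, if_neg (by decide), add_zero]
  · rw [e, fn_eq_one (D.ne b hb) e, if_pos rfl, D.fn_add ha ht, add_comm]

/-- (O) -/
theorem o_aux [Finite H] {a c : M} (ha : a ∈ Om) (hc : c ∈ Om) (hps : ps Q a = ps Q c)
    (hcon : ∀ x ∈ Om, ∀ ψ ∈ ps Q x, ψ a = ψ c) : a = c := by
  let TT : Subgroup H := closure {t | ∃ x ∈ Om, t ∈ Q x ∧ Tv x t}
  have hTT : ∀ h : H, ∀ t ∈ TT, h * t * h⁻¹ ∈ TT := by
    intro h t ht
    induction ht using closure_induction with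
    | mem t ht =>
      obtain ⟨x, hx, h1, h2⟩ := ht
      exact subset_closure ⟨h • x, D.smul h x hx, D.conj h x hx t h1, h2.conj h⟩
    | one => simp
    | mul x y _ _ h1 h2 =>
      have e : h * (x * y) * h⁻¹ = (h * x * h⁻¹) * (h * y * h⁻¹) := by group
      rw [e]
      exact mul_mem h1 h2
    | inv x _ h1 =>
      have e : h * x⁻¹ * h⁻¹ = (h * x * h⁻¹)⁻¹ := by group
      rw [e]
      exact inv_mem h1
  let R : Subgroup M :=
    { carrier := {m | ∀ t ∈ TT, t • m = m}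
      mul_mem' := fun {x y} hx hy t ht => by rw [smul_mul', hx t ht, hy t ht]
      one_mem' := fun t _ => smul_one t
      inv_mem' := fun {x} hx t ht => by rw [smul_inv', hx t ht] }
  have hRh : ∀ h : H, ∀ m ∈ R, h • m ∈ R := by
    intro h m hm t ht
    have h1 := hm _ (hTT h⁻¹ t ht)
    rw [inv_inv, mul_smul, mul_smul, inv_smul_eq_iff] at h1
    exact h1
  have he : a * c ∈ R := by
    have hle : TT ≤ MulAction.stabilizer H (a * c) := by
      refine (closure_le _).mpr ?_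
      rintro t ⟨x, hx, h1, h2⟩
      show t • (a * c) = a * c
      rw [← fn_eq_zero, D.fn_add hx h2, hcon x hx _ ⟨t, h1, h2, rfl⟩, zmod_two_add]
    exact fun t ht => hle ht
  let N : Subgroup H :=
    { carrier := {g | g ∈ TT ∧ ∀ m : M, g • m * m⁻¹ ∈ R}
      mul_mem' := by
        rintro x y ⟨hx, hx1⟩ ⟨hy, hy1⟩
        refine ⟨mul_mem hx hy, fun m => ?_⟩
        have e : (x * y) • m * m⁻¹ = (x • (y • m) * (y • m)⁻¹) * (y • m * m⁻¹) := by
          rw [mul_smul]; group
        rw [e]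
        exact mul_mem (hx1 _) (hy1 m)
      one_mem' := ⟨one_mem _, fun m => by rw [one_smul, mul_inv_cancel]; exact one_mem _⟩
      inv_mem' := by
        rintro x ⟨hx, hx1⟩
        refine ⟨inv_mem hx, fun m => ?_⟩
        have e : x⁻¹ • m * m⁻¹ = (x • (x⁻¹ • m) * (x⁻¹ • m)⁻¹)⁻¹ := by
          rw [smul_inv_smul]; group
        rw [e]
        exact inv_mem (hx1 _) }
  have hN : ∀ n ∈ N, ∀ m : M, n • m = m := by
    refine D.o2 N (fun h n hn => ⟨hTT h n hn.1, fun m => ?_⟩) fun n hn m => ?_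
    · have e : (h * n * h⁻¹) • m * m⁻¹ = h • (n • (h⁻¹ • m) * (h⁻¹ • m)⁻¹) := by
        rw [mul_smul, mul_smul, smul_mul', smul_inv', smul_inv_smul]
      rw [e]
      exact hRh h _ (hn.2 _)
    · have h1 := hn.2 m n hn.1
      have e : n • m = (n • m * m⁻¹) * m := by group
      rw [e, smul_mul', h1, ← D.inv_eq (n • m * m⁻¹)]
      rw [D.inv_eq (n • m * m⁻¹)]
      have e2 : (n • m * m⁻¹) * (n • m) = (n • m * m⁻¹) * ((n • m * m⁻¹) * m) := by
        rw [← e]
      rw [e2, D.mul_mul_cancel']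
  obtain ⟨φ, hφ, hne⟩ := D.exists_ne ha
  obtain ⟨d, hd, hd1⟩ := D.exists_one ha hφ hne
  have hφ' := hφ
  rw [hps] at hφ'
  obtain ⟨t, htQ, ht, hφt⟩ := hφ
  obtain ⟨s, hsQ, hs, hφs⟩ := hφ'
  have htc : t • c = c := by
    rw [← fn_eq_zero, ← hφt, hφs, fn_eq_zero]
    exact D.fix c hc s hsQ
  have hact : ∀ m : M, (t * s) • m * m⁻¹ = 1 ∨ (t * s) • m * m⁻¹ = a * c := by
    intro m
    rcases hs m with e | e
    · left
      have e1 : t • m = m := by
        rw [← fn_eq_zero, ← hφt, hφs, fn_eq_zero, e]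
      rw [mul_smul, e, e1, mul_inv_cancel]
    · right
      have e1 : t • m = a * m := by
        refine ht.eq_of_one ?_
        rw [← hφt, hφs]
        exact fn_eq_one (D.ne c hc) e
      rw [mul_smul, e, smul_mul', htc, e1, ← mul_assoc, D.comm c a, mul_assoc, mul_inv_cancel, mul_one]
  have hts : t * s ∈ N := by
    refine ⟨mul_mem (subset_closure ⟨a, ha, htQ, ht⟩) (subset_closure ⟨c, hc, hsQ, hs⟩), fun m => ?_⟩
    rcases hact m with e | e
    · rw [e]; exact one_mem _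
    · rw [e]; exact he
  have h1 := hN _ hts d
  have e1 : s • d = c * d := hs.eq_of_one (by rw [← hφs]; exact hd1)
  have e2 : t • d = a * d := ht.eq_of_one (by rw [← hφt]; exact hd1)
  rw [mul_smul, e1, smul_mul', htc, e2, ← mul_assoc, mul_eq_right] at h1
  rw [mul_eq_one_iff_eq_inv.mp h1, D.inv_eq]

/-- the system of transvections -/
theorem sys [Finite H] : ∃ K : ℕ, Sys Om 1 (ps Q) K := by
  obtain ⟨w0, hw0, -⟩ := D.tv
  refine ⟨(ps Q w0).ncard, ?_⟩
  exact
    { sq := fun a _ => D.sq a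
      zero := by
        intro a _
        refine ⟨1, one_mem _, fun m => Or.inl (one_smul H m), ?_⟩
        funext m
        exact (fn_eq_zero.mpr (one_smul H m)).symm
      addm := by
        rintro a ha _ ⟨t, htQ, ht, rfl⟩ _ ⟨s, hsQ, hs, rfl⟩
        exact ⟨t * s, mul_mem htQ hsQ, D.tv_mul ha ht hs (D.fix a ha t htQ),
          (D.fn_mul ha ht hs (D.fix a ha t htQ)).symm⟩
      fin := by
        intro a _
        refine Set.Finite.subset (Set.finite_range fun t : H => (fn t : M → ZMod 2)) ?_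
        rintro φ ⟨t, -, -, rfl⟩
        exact ⟨t, rfl⟩
      card := by
        intro a ha
        obtain ⟨h, rfl⟩ := D.trans w0 hw0 a ha
        rw [D.ps_smul h hw0, Set.ncard_image_of_injective _ (tws_inj h)]
      self := fun a ha φ hφ => D.self_zero ha hφ
      add := fun a ha φ hφ b _ c _ => D.ps_add ha hφ b c
      mul_mem := by
        rintro a ha b hb _ ⟨t, htQ, ht, rfl⟩ h1
        rw [← ht.eq_of_one h1]
        exact D.smul t b hb
      one := by
        rintro a ha b hb _ ⟨t, htQ, ht, rfl⟩ h1 _ ⟨s, hsQ, hs, rfl⟩ h2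
        have hsa : s • a = a := fn_eq_zero.mp h2
        refine ⟨s * t * s⁻¹, ?_, ?_, ?_⟩
        · have := D.conj s a ha t htQ
          rwa [hsa] at this
        · have := ht.conj s
          rwa [hsa] at this
        · funext m
          rw [D.conj_fn ha hb ht hs hsQ, h1]
          show fn t m + fn s m = _
          rcases zmod_two_cases (fn s m) with e | e
          · rw [e, if_neg (by decide)]
          · rw [e, if_pos rfl]
      two := by
        rintro a ha b hb _ ⟨t, htQ, ht, rfl⟩ h1 _ ⟨s, hsQ, hs, rfl⟩ h2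
        have hsa : s • a = a * b := by rw [hs.eq_of_one h2, D.comm]
        refine ⟨s * t * s⁻¹, ?_, ?_, ?_⟩
        · have := D.conj s a ha t htQ
          rwa [hsa] at this
        · have := ht.conj s
          rwa [hsa] at this
        · funext m
          rw [D.conj_fn ha hb ht hs hsQ, h1, ite_self, add_zero]
      span := fun a ha φ hφ hne => D.exists_one ha hφ hne
      o := by
        intro a ha c hc hac _ hps
        by_contra hcon
        push Not at hcon
        exact hac (D.o_aux ha hc hps hcon) }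

/-- `a` is joined to `b` -/
abbrev Jd (Q : M → Subgroup H) (a b : M) : Prop := Sys.Joined (ps Q) a b

omit D in
theorem not_jd {a b : M} (h : ¬ Jd Q a b) {φ : M → ZMod 2} (hφ : φ ∈ ps Q a) : φ b = 0 := by
  rcases zmod_two_cases (φ b) with e | e
  · exact e
  · exact absurd ⟨φ, hφ, e⟩ h

theorem symm [Finite H] {a b : M} (ha : a ∈ Om) (hb : b ∈ Om) (h : Jd Q a b) : Jd Q b a := by
  obtain ⟨K, S⟩ := D.sys
  exact S.symm ha hb h

/-- (0) -/
theorem ps_inj [Finite H] {a c : M} (ha : a ∈ Om) (hc : c ∈ Om) (hps : ps Q a = ps Q c) : a = c := by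
  have key : ∀ a ∈ Om, ∀ c ∈ Om, ps Q a = ps Q c → ∀ x ∈ Om, ∀ ψ ∈ ps Q x, ψ a = 1 → ψ c = 1 := by
    intro a ha c hc hps x hx ψ hψ h1
    rcases zmod_two_cases (ψ c) with e | e
    swap
    · exact e
    exfalso
    obtain ⟨φ, hφ, hφ1⟩ := D.symm hx ha ⟨ψ, hψ, h1⟩
    obtain ⟨t, htQ, ht, rfl⟩ := hψ
    have e1 : t • a = x * a := ht.eq_of_one h1
    have e2 : t • c = c := fn_eq_zero.mp e
    have e3 : ps Q (x * a) = ps Q a := by
      rw [← e1, D.ps_smul t ha, hps, ← D.ps_smul t hc, e2]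
    have h2 : φ ∈ ps Q (x * a) := by rw [e3]; exact hφ
    have hxa : x * a ∈ Om := by rw [← e1]; exact D.smul t a ha
    have h3 := D.self_zero hxa h2
    rw [D.ps_add ha hφ, hφ1, D.self_zero ha hφ, add_zero] at h3
    exact absurd h3 (by decide)
  refine D.o_aux ha hc hps fun x hx ψ hψ => ?_
  rcases zmod_two_cases (ψ a) with e | e
  · rcases zmod_two_cases (ψ c) with e' | e'
    · rw [e, e']
    · rw [key c hc a ha hps.symm x hx ψ hψ e', e']
  · rw [e, key a ha c hc hps x hx ψ hψ e]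

/-- (1) -/
theorem fix_of_not_jd [Finite H] (hquad : Quad Om Q) {w s : M} (hw : w ∈ Om) (hs : s ∈ Om) (h : ¬ Jd Q s w) {g : H} (hg : g ∈ Q w) :
    g • s = s := by
  by_contra hgs
  have hQ := hquad w hw
  refine hgs (Eq.symm (D.ps_inj hs (D.smul g s hs) ?_))
  rw [D.ps_smul g hs]
  -- every `ψ ∈ Ps s` is fixed by `g`
  have key : ∀ ψ ∈ ps Q s, tws g ψ = ψ := by
    intro ψ hψ
    by_contra hne
    have hψ' : tws g ψ ∈ ps Q (g • s) := by rw [D.ps_smul g hs]; exact ⟨ψ, hψ, rfl⟩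
    have hgs' := D.smul g s hs
    have hψ0 : ψ ≠ 0 := by
      rintro rfl
      exact hne rfl
    -- `m` with `ψ m = 1`, `ψ^g m = 0`
    obtain ⟨m, hm1, hm2⟩ : ∃ m : M, ψ m = 1 ∧ tws g ψ m = 0 := by
      by_contra hcon
      push Not at hcon
      obtain ⟨d, -, hd⟩ := D.exists_one hs hψ hψ0
      have hd' : tws g ψ d = 1 := (zmod_two_cases _).resolve_left (hcon d hd)
      apply hne
      funext m
      rcases zmod_two_cases (ψ m) with e | e
      · rw [e]
        have h1 : ψ (m * d) = 1 := by rw [D.ps_add hs hψ, e, hd, zero_add]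
        have h2 : tws g ψ (m * d) = 1 := (zmod_two_cases _).resolve_left (hcon _ h1)
        rw [D.ps_add hgs' hψ', hd'] at h2
        rcases zmod_two_cases (tws g ψ m) with e' | e'
        · exact e'
        · rw [e'] at h2
          exact absurd h2 (by decide)
      · rw [e]
        exact (zmod_two_cases _).resolve_left (hcon m e)
    obtain ⟨t, htQ, ht, rfl⟩ := hψ
    have htw : t • w = w := fn_eq_zero.mp (not_jd h ⟨t, htQ, ht, rfl⟩)
    -- `c = t g t⁻¹ g⁻¹ ∈ Q w`
    have hc : t * g * t⁻¹ * g⁻¹ ∈ Q w := by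
      have h1 := D.conj t w hw g hg
      rw [htw] at h1
      exact mul_mem h1 (inv_mem hg)
    have h3 : (g * t⁻¹ * g⁻¹) • m = m := by
      have h4 : (g * t * g⁻¹) • m = m := by
        rw [← fn_eq_zero, fn_conj]
        exact hm2
      have h5 : (g * t * g⁻¹)⁻¹ • m = m := by
        conv_lhs => rw [← h4]
        rw [inv_smul_smul]
      have e : g * t⁻¹ * g⁻¹ = (g * t * g⁻¹)⁻¹ := by group
      rw [e]
      exact h5
    have h4 : (t * g * t⁻¹ * g⁻¹) • m * m⁻¹ = s := by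
      have e : t * g * t⁻¹ * g⁻¹ = t * (g * t⁻¹ * g⁻¹) := by group
      rw [e, mul_smul, h3, ht.eq_of_one hm1, mul_inv_cancel_right]
    have h5 := hQ _ hc g hg m
    rw [h4] at h5
    exact hgs h5
  ext φ
  constructor
  · intro hφ
    exact ⟨φ, hφ, key φ hφ⟩
  · rintro ⟨ψ, hψ, rfl⟩
    rw [key ψ hψ]
    exact hψ

/-- (2), (3): `s ∈ Om` -/
theorem act_om [Finite H] (hquad : Quad Om Q) {w s : M} (hw : w ∈ Om) (hs : s ∈ Om) {g : H} (hg : g ∈ Q w) :
    g • s = s ∨ g • s = w * s := by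
  by_cases hsw : Jd Q s w
  swap
  · exact Or.inl (D.fix_of_not_jd hquad hw hs hsw hg)
  obtain ⟨K, S⟩ := D.sys
  have hgw := D.fix w hw g hg
  have hgs := D.smul g s hs
  have hws := S.symm hs hw hsw
  set u := g • s * s with hu
  have huu : u = g • s * s⁻¹ := by rw [D.inv_eq]
  have hgsu : g • s = u * s := by rw [hu, mul_assoc, D.sq, mul_one]
  -- `Q w` fixes `u`
  have hfix : ∀ t ∈ Q w, t • u = u := by
    intro t ht
    rw [huu]
    exact hquad w hw g hg t ht s
  by_cases hK : 2 < K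
  · -- (2)
    by_contra hcon
    push Not at hcon
    obtain ⟨hn1, hn2⟩ := hcon
    have hgsw : Jd Q w (g • s) := by
      obtain ⟨φ, hφ, h1⟩ := hws
      refine ⟨tws g φ, ?_, ?_⟩
      · have : tws g φ ∈ ps Q (g • w) := by rw [D.ps_smul g hw]; exact ⟨φ, hφ, rfl⟩
        rwa [hgw] at this
      · show φ (g⁻¹ • g • s) = 1
        rw [inv_smul_smul]; exact h1
    have h1 : Jd Q s (g • s) := by
      refine S.trans hK hs hw hgs hsw hgsw hn1 ?_
      rw [mul_one]; exact hn1
    obtain ⟨h2, h3⟩ := S.joined_mul hs hgs h1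
    have e1 : s * g • s = u := by rw [hu, D.comm]
    rw [e1] at h2 h3
    have hwu : w ≠ u := by
      rintro rfl
      exact hn2 hgsu
    have h4 : Jd Q u w := by
      refine S.trans hK h2 hs hw (S.symm hs h2 h3) hsw hwu ?_
      rw [mul_one]; exact hwu
    obtain ⟨φ, ⟨t, htQ, ht, rfl⟩, h5⟩ := S.symm h2 hw h4
    have h6 := hfix t htQ
    rw [fn_eq_zero.mpr h6] at h5
    exact absurd h5 (by decide)
  · -- (3)
    have huniq : ∀ a ∈ Om, ∀ φ ∈ ps Q a, ∀ ψ ∈ ps Q a, φ ≠ 0 → ψ ≠ 0 → φ = ψ := by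
      intro a ha φ hφ ψ hψ h1 h2
      by_contra hne
      apply hK
      have h3 : ({0, φ, ψ} : Set (M → ZMod 2)) ⊆ ps Q a := by
        rintro x (rfl | rfl | rfl)
        · exact S.zero a ha
        · exact hφ
        · exact hψ
      have h4 := Set.ncard_le_ncard h3 (S.fin a ha)
      rw [S.card a ha, Set.ncard_insert_of_notMem, Set.ncard_pair hne] at h4
      · exact h4
      · rintro (e | e)
        · exact h1 e.symm
        · exact h2 e.symm
    -- the form
    have hF : ∀ a : M, ∃ φ : M → ZMod 2, a ∈ Om → φ ∈ ps Q a ∧ φ ≠ 0 := by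
      intro a
      by_cases ha : a ∈ Om
      · obtain ⟨φ, h1, h2⟩ := D.exists_ne ha
        exact ⟨φ, fun _ => ⟨h1, h2⟩⟩
      · exact ⟨0, fun h => absurd h ha⟩
    choose F hF using hF
    have hFm : ∀ a ∈ Om, F a ∈ ps Q a := fun a ha => (hF a ha).1
    have hF0 : ∀ a ∈ Om, F a ≠ 0 := fun a ha => (hF a ha).2
    have hFu : ∀ a ∈ Om, ∀ φ ∈ ps Q a, φ ≠ 0 → φ = F a := fun a ha φ hφ h0 =>
      huniq a ha φ hφ (F a) (hFm a ha) h0 (hF0 a ha)
    have hJ : ∀ a ∈ Om, ∀ b, Jd Q a b ↔ F a b = 1 := by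
      intro a ha b
      constructor
      · rintro ⟨φ, hφ, h1⟩
        have h0 : φ ≠ 0 := by
          rintro rfl
          exact absurd (show (0 : ZMod 2) = 1 from h1) (by decide)
        rwa [← hFu a ha φ hφ h0]
      · intro h1
        exact ⟨F a, hFm a ha, h1⟩
    have hsym : ∀ a ∈ Om, ∀ b ∈ Om, F a b = F b a := by
      intro a ha b hb
      rcases zmod_two_cases (F a b) with e | e
      · rcases zmod_two_cases (F b a) with e' | e'
        · rw [e, e']
        · have := (hJ a ha b).mp (S.symm hb ha ((hJ b hb a).mpr e'))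
          rw [e] at this
          exact absurd this (by decide)
      · rw [e, (hJ b hb a).mp (S.symm ha hb ((hJ a ha b).mpr e))]
    have hadd : ∀ a ∈ Om, ∀ x y, F a (x * y) = F a x + F a y := fun a ha => D.ps_add ha (hFm a ha)
    have hg : ∀ a ∈ Om, ∀ x, F (g • a) (g • x) = F a x := by
      intro a ha x
      have h1 : tws g (F a) ∈ ps Q (g • a) := by rw [D.ps_smul g ha]; exact ⟨_, hFm a ha, rfl⟩
      have h2 : tws g (F a) ≠ 0 := by
        intro e
        apply hF0 a ha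
        apply tws_inj (M := M) g
        rw [e]
        rfl
      rw [← hFu _ (D.smul g a ha) _ h1 h2]
      show F a (g⁻¹ • g • x) = _
      rw [inv_smul_smul]
    -- `(u, τ) = 0` for `τ ⊥ w`
    have hperp : ∀ τ ∈ Om, F w τ = 0 → F τ u = 0 := by
      intro τ hτ h0
      have h1 : ¬ Jd Q τ w := by
        rw [hJ τ hτ, ← hsym w hw τ hτ, h0]
        decide
      have h2 := D.fix_of_not_jd hquad hw hτ h1 ‹g ∈ Q w›
      have h3 := hg τ hτ s
      rw [h2] at h3
      rw [hu, hadd τ hτ, h3, zmod_two_add]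
    have hFwu : F w u = 0 := by
      refine hperp w hw ?_
      exact D.self_zero hw (hFm w hw)
    have hFmul : ∀ a ∈ Om, ∀ b ∈ Om, a * b ∈ Om → ∀ x ∈ Om, F (a * b) x = F a x + F b x := by
      intro a ha b hb hab x hx
      rw [hsym _ hab x hx, hadd x hx, hsym x hx a ha, hsym x hx b hb]
    have hFmulu : ∀ a ∈ Om, ∀ b ∈ Om, a * b ∈ Om → F (a * b) u = F a u + F b u := by
      intro a ha b hb hab
      rw [hu, hadd _ hab, hFmul a ha b hb hab _ hgs, hFmul a ha b hb hab _ hs, hadd a ha, hadd b hb]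
      ring
    have hone : ∀ b ∈ Om, ∀ b' ∈ Om, F w b = 1 → F w b' = 1 → F b b' = 1 → F b u = F b' u := by
      intro b hb b' hb' h1 h1' h2
      have h3 : b * b' ∈ Om := S.mul_mem b hb b' hb' (F b) (hFm b hb) h2
      have h4 := hperp _ h3 (by rw [hadd w hw, h1, h1']; decide)
      rw [hFmulu b hb b' hb' h3] at h4
      rcases zmod_two_cases (F b u) with e | e <;> rcases zmod_two_cases (F b' u) with e' | e' <;>
        rw [e, e'] at h4 ⊢ <;> revert h4 <;> decide
    have hall : ∀ b ∈ Om, ∀ b' ∈ Om, F w b = 1 → F w b' = 1 → F b u = F b' u := by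
      intro b hb b' hb' h1 h1'
      rcases zmod_two_cases (F b b') with e | e
      swap
      · exact hone b hb b' hb' h1 h1' e
      have h3 : w * b' ∈ Om := S.mul_mem w hw b' hb' (F w) (hFm w hw) h1'
      have h4 : F w (w * b') = 1 := by
        rw [hadd w hw, D.self_zero hw (hFm w hw), zero_add, h1']
      have h5 : F b (w * b') = 1 := by
        rw [hadd b hb, hsym b hb w hw, h1, e, add_zero]
      rw [hone b hb _ h3 h1 h4 h5, hFmulu w hw b' hb' h3, hFwu, zero_add]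
    -- `s' = s` or `w s`
    have hFws : F w s = 1 := by
      rw [← hJ w hw]
      exact hws
    have hfin : ∀ s' ∈ Om, (∀ τ ∈ Om, F τ (g • s) = F τ s') → g • s = s' := by
      intro s' hs' h1
      have h2 : F (g • s) = F s' := by
        refine D.ps_ext hgs hs' (hFm _ hgs) (hFm _ hs') fun x hx => ?_
        rw [hsym _ hgs x hx, h1 x hx, hsym x hx s' hs']
      refine D.ps_inj hgs hs' ?_
      have hset : ∀ a ∈ Om, ps Q a = {0, F a} := by
        intro a ha
        ext φ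
        constructor
        · intro hφ
          by_cases h0 : φ = 0
          · exact Or.inl h0
          · exact Or.inr (hFu a ha φ hφ h0)
        · rintro (rfl | rfl)
          · exact S.zero a ha
          · exact hFm a ha
      rw [hset _ hgs, hset _ hs', h2]
    rcases zmod_two_cases (F s u) with ec | ec
    · left
      refine hfin s hs fun τ hτ => ?_
      rw [hgsu, hadd τ hτ u s]
      have : F τ u = 0 := by
        rcases zmod_two_cases (F w τ) with e | e
        · exact hperp τ hτ e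
        · rw [hall τ hτ s hs e hFws, ec]
      rw [this, zero_add]
    · right
      have hws' : w * s ∈ Om := S.mul_mem w hw s hs (F w) (hFm w hw) hFws
      refine hfin (w * s) hws' fun τ hτ => ?_
      rw [hgsu, hadd τ hτ u s, hadd τ hτ w s]
      congr 1
      rcases zmod_two_cases (F w τ) with e | e
      · rw [hperp τ hτ e, hsym τ hτ w hw, e]
      · rw [hall τ hτ s hs e hFws, ec, hsym τ hτ w hw, e]

omit D in
theorem tv_all (D : Dat Om Q) {w : M} {g : H} (h : ∀ s ∈ Om, g • s = s ∨ g • s = w * s) : Tv w g := by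
  intro m
  have hm : m ∈ closure Om := by rw [D.span]; exact mem_top m
  induction hm using closure_induction with
  | mem x hx => exact h x hx
  | one => left; exact smul_one g
  | mul x y _ _ h1 h2 =>
    rcases h1 with e | e <;> rcases h2 with e' | e'
    · left; rw [smul_mul', e, e']
    · right; rw [smul_mul', e, e', ← mul_assoc, D.comm x w, mul_assoc]
    · right; rw [smul_mul', e, e', mul_assoc]
    · left; rw [smul_mul', e, e', D.comm w x, mul_assoc, D.mul_mul_cancel']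
  | inv x _ h1 => rwa [D.inv_eq]

/-- **THEOREM TQ** -/
theorem tq [Finite H] (hquad : Quad Om Q) {w : M} (hw : w ∈ Om) {g : H} (hg : g ∈ Q w) : Tv w g :=
  D.tv_all fun _ hs => D.act_om hquad hw hs hg

/-! ### more than one transvection -/

omit D [Group H] [Group M] [MulDistribMulAction H M] in
theorem two_pow_mod (k : ℕ) : 2 ^ k % 3 = 1 ∨ 2 ^ k % 3 = 2 := by
  induction k with
  | zero => left; rfl
  | succ k ih => rw [pow_succ]; omega

/-- an element of order 3 on `⟨x, y⟩` is not a 2-element -/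
theorem three {g : H} {x y : M} (h1 : g • x = y) (h2 : g • y = x * y) (hx : x ≠ 1) (hy : y ≠ 1) (hxy : x ≠ y)
    {k : ℕ} (hk : ∀ m : M, g ^ 2 ^ k • m = m) : False := by
  have h3 : g • (x * y) = x := by
    rw [smul_mul', h1, h2, D.comm x y, D.mul_mul_cancel']
  have h4 : ∀ n : ℕ, (g ^ (3 * n)) • x = x := by
    intro n
    induction n with
    | zero => rw [Nat.mul_zero, pow_zero, one_smul]
    | succ n ih =>
      rw [Nat.mul_succ, add_comm, pow_add, mul_smul, ih]
      rw [pow_succ, pow_succ, pow_one, mul_smul, mul_smul, h1, h2, h3]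
  rcases two_pow_mod k with e | e
  · obtain ⟨n, hn⟩ : ∃ n, 2 ^ k = 3 * n + 1 := ⟨2 ^ k / 3, by omega⟩
    have := hk x
    rw [hn, pow_succ', mul_smul, h4, h1] at this
    exact hxy this.symm
  · obtain ⟨n, hn⟩ : ∃ n, 2 ^ k = 3 * n + 2 := ⟨2 ^ k / 3, by omega⟩
    have := hk x
    rw [hn, pow_succ', pow_succ', mul_smul, mul_smul, h4, h1, h2] at this
    exact hy (by simpa using this)

/-- **THEOREM TQ'** -/
theorem act_om_big [Finite H] {K : ℕ} (S : Sys Om 1 (ps Q) K) (hK : 2 < K) {w s : M} (hw : w ∈ Om) (hs : s ∈ Om)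
    {g : H} (hg : g ∈ Q w) : g • s = s ∨ g • s = w * s := by
  by_contra hcon
  push Not at hcon
  obtain ⟨hn1, hn2⟩ := hcon
  have hgw := D.fix w hw g hg
  have hgw' : g⁻¹ • w = w := by rw [inv_smul_eq_iff, hgw]
  have hgs := D.smul g s hs
  have hgs' := D.smul g⁻¹ s hs
  have hsw : s ≠ w := by
    rintro rfl
    exact hn1 hgw
  -- transitivity in the form `a - b - c`
  have htr : ∀ {a b c : M}, a ∈ Om → b ∈ Om → c ∈ Om → Jd Q a b → Jd Q b c → c ≠ a → Jd Q a c :=
    fun ha hb hc h1 h2 h3 => S.trans hK ha hb hc h1 h2 h3 (by rw [mul_one]; exact h3)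
  have hsy : ∀ {a b : M}, a ∈ Om → b ∈ Om → Jd Q a b → Jd Q b a := fun ha hb h1 => S.symm ha hb h1
  -- `s` and `g s`, `g⁻¹ s`
  set e1 := g • s with he1
  set e2 := g⁻¹ • s with he2
  have hne1 : e1 ≠ s := hn1
  have hne2 : e2 ≠ s := by
    intro e
    apply hn1
    rw [he1]
    nth_rewrite 1 [← e]
    rw [he2, smul_inv_smul]
  -- the final contradiction in cases (a), (b)
  have hfin : ∀ φ ∈ ps Q s, φ w = 0 → φ e1 = 1 → φ e2 = 1 → False := by
    rintro _ ⟨t, htQ, ht, rfl⟩ h1 h2 h3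
    have htw : t • w = w := fn_eq_zero.mp h1
    have hc : t * (g * t * g⁻¹)⁻¹ ∈ Q w := by
      have h4 := D.conj t w hw g hg
      rw [htw] at h4
      have e : t * (g * t * g⁻¹)⁻¹ = t * g * t⁻¹ * g⁻¹ := by group
      rw [e]
      exact mul_mem h4 (inv_mem hg)
    set t' := g * t * g⁻¹ with ht'
    have ht'Q : t' ∈ Q e1 := D.conj g s hs t htQ
    have ht'v : Tv e1 t' := ht.conj g
    have h5 : t' • s = e1 * s := by
      refine ht'v.eq_of_one ?_
      rw [ht', fn_conj]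
      exact h3
    have h6 : t'⁻¹ • s = e1 * s := by
      rw [D.inv_smul hgs ht'v (D.fix _ hgs t' ht'Q), h5]
    have h7 : t'⁻¹ • e1 = e1 := by
      rw [inv_smul_eq_iff, D.fix _ hgs t' ht'Q]
    have hts : t • s = s := D.fix s hs t htQ
    have hte : t • e1 = s * e1 := ht.eq_of_one h2
    obtain ⟨k, hk⟩ := D.two w hw _ hc
    refine D.three (g := t * t'⁻¹) (x := s) (y := e1) ?_ ?_ (D.ne s hs) (D.ne _ hgs) hne1.symm hk
    · rw [mul_smul, h6, smul_mul', hte, hts, D.comm s e1, mul_assoc, D.sq, mul_one]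
    · rw [mul_smul, h7, hte]
  -- two functionals
  have hcomb : ∀ φ₁ ∈ ps Q s, ∀ φ₂ ∈ ps Q s, φ₁ w = 0 → φ₂ w = 0 → φ₁ e1 = 1 → φ₂ e2 = 1 → False := by
    intro φ₁ h₁ φ₂ h₂ hw1 hw2 a1 a2
    rcases zmod_two_cases (φ₁ e2) with e | e
    swap
    · exact hfin φ₁ h₁ hw1 a1 e
    rcases zmod_two_cases (φ₂ e1) with e' | e'
    swap
    · exact hfin φ₂ h₂ hw2 e' a2
    refine hfin (φ₁ + φ₂) (S.addm s hs _ h₁ _ h₂) ?_ ?_ ?_
    · show φ₁ w + φ₂ w = 0
      rw [hw1, hw2, add_zero]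
    · show φ₁ e1 + φ₂ e1 = 1
      rw [a1, e', add_zero]
    · show φ₁ e2 + φ₂ e2 = 1
      rw [e, a2, zero_add]
  have htw : ∀ (h : H) {a b : M}, a ∈ Om → Jd Q a b → Jd Q (h • a) (h • b) := by
    rintro h a b ha ⟨φ, hφ, h1⟩
    refine ⟨tws h φ, ?_, ?_⟩
    · rw [D.ps_smul h ha]
      exact ⟨φ, hφ, rfl⟩
    · show φ (h⁻¹ • h • b) = 1
      rw [inv_smul_smul]; exact h1
  by_cases hsX : Jd Q s w
  · -- (a)
    have hws := hsy hs hw hsX
    have sep : ∀ e ∈ Om, Jd Q w e → e ≠ s → e ≠ w * s → ∃ ψ ∈ ps Q s, ψ w = 0 ∧ ψ e = 1 := by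
      intro e he hwe h1 h2
      obtain ⟨h3, h4⟩ := S.joined_mul hw he hwe
      have h5 : w * e ≠ s := by
        intro e'
        apply h2
        rw [← e', D.mul_mul_cancel']
      obtain ⟨ψ₁, hψ₁, h6⟩ := htr hs hw h3 hsX h4 h5
      obtain ⟨ψ₂, hψ₂, h7⟩ := htr hs hw he hsX hwe h1
      rw [D.ps_add hs hψ₁] at h6
      rcases zmod_two_cases (ψ₁ w) with a1 | a1
      · rw [a1, zero_add] at h6
        exact ⟨ψ₁, hψ₁, a1, h6⟩
      rcases zmod_two_cases (ψ₁ e) with a2 | a2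
      swap
      · rw [a1, a2] at h6
        exact absurd h6 (by decide)
      rcases zmod_two_cases (ψ₂ w) with a3 | a3
      · exact ⟨ψ₂, hψ₂, a3, h7⟩
      refine ⟨ψ₁ + ψ₂, S.addm s hs _ hψ₁ _ hψ₂, ?_, ?_⟩
      · show ψ₁ w + ψ₂ w = 0
        rw [a1, a3]; decide
      · show ψ₁ e + ψ₂ e = 1
        rw [a2, h7, zero_add]
    have hwe1 : Jd Q w e1 := by
      have := htw g hw hws
      rwa [hgw] at this
    have hwe2 : Jd Q w e2 := by
      have := htw g⁻¹ hw hws
      rwa [hgw'] at this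
    have hne2' : e2 ≠ w * s := by
      intro e
      apply hn2
      have h1 : s = w * e1 := by
        calc s = g • e2 := by rw [he2, smul_inv_smul]
          _ = w * e1 := by rw [e, smul_mul', hgw]
      rw [h1, D.mul_mul_cancel']
    obtain ⟨φ₁, h₁, a1, b1⟩ := sep e1 hgs hwe1 hne1 hn2
    obtain ⟨φ₂, h₂, a2, b2⟩ := sep e2 hgs' hwe2 hne2 hne2'
    exact hcomb φ₁ h₁ φ₂ h₂ a1 a2 b1 b2
  · by_cases hse : Jd Q s e1
    · -- (b)
      obtain ⟨φ₁, h₁, b1⟩ := hse
      have h3 : Jd Q s e2 := by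
        refine hsy hgs' hs ?_
        have := htw g⁻¹ hs ⟨φ₁, h₁, b1⟩
        rwa [he1, inv_smul_smul] at this
      obtain ⟨φ₂, h₂, b2⟩ := h3
      exact hcomb φ₁ h₁ φ₂ h₂ (not_jd hsX h₁) (not_jd hsX h₂) b1 b2
    · -- (c)
      obtain ⟨φ, hφ, hφ0⟩ := D.exists_ne hs
      obtain ⟨d, hd, hφd⟩ := D.exists_one hs hφ hφ0
      have hsd : Jd Q s d := ⟨φ, hφ, hφd⟩
      have hds := hsy hs hd hsd
      obtain ⟨θ, hθ, hθs⟩ := id hds
      have hdw : ¬ Jd Q d w := fun h1 => hsX (htr hs hd hw hsd h1 hsw.symm)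
      have he1s : ¬ Jd Q e1 s := fun h1 => hse (hsy hgs hs h1)
      have he1d : ¬ Jd Q e1 d := fun h1 => hse (htr hs hd hgs hsd (hsy hgs hd h1) hne1)
      obtain ⟨t, htQ, ht, rfl⟩ := hφ
      obtain ⟨t2, ht2Q, ht2, rfl⟩ := hθ
      have htw' : t • w = w := fn_eq_zero.mp (not_jd hsX ⟨t, htQ, ht, rfl⟩)
      have ht2w : t2 • w = w := fn_eq_zero.mp (not_jd hdw ⟨t2, ht2Q, ht2, rfl⟩)
      set t' := g * t * g⁻¹ with ht'
      have ht'Q : t' ∈ Q e1 := D.conj g s hs t htQ
      have ht'v : Tv e1 t' := ht.conj g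
      have hc : t * t'⁻¹ ∈ Q w := by
        have h4 := D.conj t w hw g hg
        rw [htw'] at h4
        have e : t * (g * t * g⁻¹)⁻¹ = t * g * t⁻¹ * g⁻¹ := by group
        rw [ht', e]
        exact mul_mem h4 (inv_mem hg)
      have hc2 : t2 * (t * t'⁻¹) * t2⁻¹ ∈ Q w := by
        have h4 := D.conj t2 w hw _ hc
        rwa [ht2w] at h4
      have hc' : (t * t'⁻¹) * (t2 * (t * t'⁻¹) * t2⁻¹)⁻¹ ∈ Q w := mul_mem hc (inv_mem hc2)
      -- actions
      have a1 : t' • s = s := fn_eq_zero.mp (not_jd he1s ⟨t', ht'Q, ht'v, rfl⟩)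
      have a2 : t' • d = d := fn_eq_zero.mp (not_jd he1d ⟨t', ht'Q, ht'v, rfl⟩)
      have a1' : t'⁻¹ • s = s := by rw [inv_smul_eq_iff, a1]
      have a2' : t'⁻¹ • d = d := by rw [inv_smul_eq_iff, a2]
      have b1 : t • s = s := D.fix s hs t htQ
      have b2 : t • d = s * d := ht.eq_of_one hφd
      have b1' : t⁻¹ • s = s := by rw [inv_smul_eq_iff, b1]
      have b2' : t⁻¹ • d = s * d := by rw [D.inv_smul hs ht b1, b2]
      have c1 : t2 • d = d := D.fix d hd t2 ht2Q
      have c2 : t2 • s = d * s := ht2.eq_of_one hθs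
      have c1' : t2⁻¹ • d = d := by rw [inv_smul_eq_iff, c1]
      have c2' : t2⁻¹ • s = d * s := by rw [D.inv_smul hd ht2 c1, c2]
      have hcc : (t * t'⁻¹) * (t2 * (t * t'⁻¹) * t2⁻¹)⁻¹ = t * t'⁻¹ * t2 * t' * t⁻¹ * t2⁻¹ := by group
      have hsds : s * d * s = d := by rw [D.comm (s * d) s, D.mul_mul_cancel']
      have hdsd : d * s * d = s := by rw [D.comm (d * s) d, D.mul_mul_cancel']
      obtain ⟨k, hk⟩ := D.two w hw _ hc'
      refine D.three (g := (t * t'⁻¹) * (t2 * (t * t'⁻¹) * t2⁻¹)⁻¹) (x := d) (y := s) ?_ ?_ (D.ne d hd) (D.ne s hs)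
        ?_ hk
      · rw [hcc]
        simp only [mul_smul, smul_mul', a1, a2, a1', a2', b1, b2, b1', b2', c1, c2, c1', c2']
        rw [hsds, D.comm s d, D.mul_mul_cancel']
      · rw [hcc]
        simp only [mul_smul, smul_mul', a1, a2, a1', a2', b1, b2, b1', b2', c1, c2, c1', c2']
        rw [hsds, D.comm s d, D.mul_mul_cancel', D.comm]
      · rintro rfl
        rw [fn_eq_zero.mpr b1] at hφd
        exact absurd hφd (by decide)

/-- **THEOREM TQ'** : two different transvections with centre `w₀` in some `Q w₀` -/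
theorem tqBig [Finite H] {w₀ : M} (hw₀ : w₀ ∈ Om) {t t' : H} (ht : t ∈ Q w₀) (ht' : t' ∈ Q w₀) (htv : Tv w₀ t)
    (htv' : Tv w₀ t') (h1 : ∃ m : M, t • m ≠ m) (h2 : ∃ m : M, t' • m ≠ m) (h3 : ∃ m : M, t • m ≠ t' • m)
    {w : M} (hw : w ∈ Om) {g : H} (hg : g ∈ Q w) : Tv w g := by
  obtain ⟨K, S⟩ := D.sys
  have hK : 2 < K := by
    obtain ⟨m1, h1⟩ := h1
    obtain ⟨m2, h2⟩ := h2
    obtain ⟨m3, h3⟩ := h3
    have n1 : (fn t : M → ZMod 2) ≠ 0 := fun e => h1 (fn_eq_zero.mp (congrFun e m1))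
    have n2 : (fn t' : M → ZMod 2) ≠ 0 := fun e => h2 (fn_eq_zero.mp (congrFun e m2))
    have n3 : (fn t : M → ZMod 2) ≠ fn t' := by
      intro e
      apply h3
      have := congrFun e m3
      rcases zmod_two_cases (fn t m3) with a | a
      · rw [a] at this
        rw [fn_eq_zero.mp a, fn_eq_zero.mp this.symm]
      · rw [a] at this
        rw [htv.eq_of_one a, htv'.eq_of_one this.symm]
    have h4 : ({0, fn t, fn t'} : Set (M → ZMod 2)) ⊆ ps Q w₀ := by
      rintro x (rfl | rfl | rfl)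
      · exact S.zero w₀ hw₀
      · exact ⟨t, ht, htv, rfl⟩
      · exact ⟨t', ht', htv', rfl⟩
    have h5 := Set.ncard_le_ncard h4 (S.fin w₀ hw₀)
    rw [S.card w₀ hw₀, Set.ncard_insert_of_notMem, Set.ncard_pair n3] at h5
    · exact h5
    · rintro (e | e)
      · exact n1 e.symm
      · exact n2 e.symm
  exact D.tv_all fun _ hs => D.act_om_big S hK hw hs hg

end Dat

end Cfsg.Agent.Omega.NO3S.TwoMid.TQ
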