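import Cfsg.Agent.Omega.NO3S.TwoMid.NOm
import Cfsg.Agent.Omega.NO3S.TwoMid.TQ

/-!
# NO-3S, `|V| = 4`, critical distance 2 (TwoMid): THEOREMS TQ, TQ' at the group level

`M_b = W_b / ⟨b⟩`, `H_b = C_G(b) / K_b`, `Q_y = U_y K_b`.

* `Md b y u w` : `[u, w] ∈ ⟨b⟩ ∪ y ⟨b⟩`; `Tvg V b y t` : `t` acts on `M_b` as a transvection with centre `y` (not trivially);
* `md_of` : if `t ∈ U_y` is a transvection with centre `y` and either all `U_y` are quadratic on `M_b`, or there is a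
  second transvection, then `[W_b, U_y] ≤ ⟨b, y⟩` for all `y ~ b`;
* `tyN_of_md`, **`tyN_of_tv`** (quadratic case), **`tyN_of_two`** (two transvections) : TYPE N.
-/

set_option autoImplicit false
set_option linter.unusedSectionVars false

namespace Cfsg.Agent.Omega.NO3S.TwoMid

open Subgroup Cfsg Cfsg.Agent.ZN Cfsg.Agent.MinSimple.Geo Cfsg.Agent.Omega.CaseL Cfsg.Agent.Omega.NO3S.TwoOne
  Cfsg.Agent.Omega.NO3S.Pt
open Cfsg.Agent.Omega.NO3S.Dual (nn mem_nn DW mem_sup_of_comm)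
open Cfsg.Agent.Omega.NO3S.TypeN (exists_conj_flag le_kq_pt)
open Cfsg.Agent.ZN.Block (conj_mem_of_normalizer conj_mem_of_normalizer' le_normalizer_of_forall
  mem_normalizer_of)

universe u

variable {G : Type u} [Group G] {T V : Subgroup G} {z : G} {a b r x y : G}

/-- `C` acts on `W / Y` by conjugation -/
abbrev conjAct {C W Y : Subgroup G} (hW : C ≤ normalizer (W : Set G)) (hY : C ≤ normalizer (Y : Set G))
    [(Y.subgroupOf W).Normal] : MulDistribMulAction C (W ⧸ Y.subgroupOf W) :=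
  let f : C → (W →* W) := fun g =>
    { toFun := fun x => ⟨(g : G) * x * (g : G)⁻¹, (mem_normalizer_iff.1 (hW g.2) x).1 x.2⟩
      map_one' := Subtype.ext (by simp)
      map_mul' := fun x y => Subtype.ext (by
        change (g : G) * ((x : G) * y) * (g : G)⁻¹ = (g : G) * x * (g : G)⁻¹ * ((g : G) * y * (g : G)⁻¹)
        group) }
  { smul := fun g => QuotientGroup.map (Y.subgroupOf W) (Y.subgroupOf W) (f g) fun x hx =>
      (mem_normalizer_iff.1 (hY g.2) x).1 hx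
    one_smul := by
      rintro ⟨x⟩
      refine congrArg (QuotientGroup.mk (s := Y.subgroupOf W)) (Subtype.ext ?_)
      change (1 : G) * (x : G) * (1 : G)⁻¹ = x
      group
    mul_smul := by
      rintro g k ⟨x⟩
      refine congrArg (QuotientGroup.mk (s := Y.subgroupOf W)) (Subtype.ext ?_)
      change ((g : G) * k) * (x : G) * ((g : G) * k)⁻¹ = (g : G) * ((k : G) * x * (k : G)⁻¹) * (g : G)⁻¹
      group
    smul_mul := fun g x y => map_mul (QuotientGroup.map _ _ (f g) _) x y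
    smul_one := fun g => map_one (QuotientGroup.map _ _ (f g) _) }

/-- `[u, w] ∈ ⟨b⟩ ∪ y ⟨b⟩` -/
def Md (b y u w : G) : Prop := u * w * u⁻¹ * w⁻¹ ∈ zpowers b ∨ u * w * u⁻¹ * w⁻¹ * y⁻¹ ∈ zpowers b

/-- `t` acts on `M_b` as a transvection with centre `y` -/
structure Tvg (V : Subgroup G) (b y t : G) : Prop where
  md : ∀ w ∈ ws V b, Md b y t w
  ne : ∃ w ∈ ws V b, t * w * t⁻¹ * w⁻¹ ∉ zpowers b

/-- all `U_y` are quadratic on `M_b` -/
def QuadB (V : Subgroup G) (b : G) : Prop :=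
  ∀ y, Col V b y → y ≠ b → ∀ u ∈ uu V y, ∀ u' ∈ uu V y, ∀ w ∈ ws V b,
    u' * (u * w * u⁻¹ * w⁻¹) * u'⁻¹ * (u * w * u⁻¹ * w⁻¹)⁻¹ ∈ zpowers b

section

variable [Finite G]

theorem md_of (h : Two T V z) {y₀ t : G} (hy₀ : Col V b y₀) (hne₀ : y₀ ≠ b) (ht : t ∈ uu V y₀)
    (htv : Tvg V b y₀ t) (hcase : QuadB V b ∨ ∃ t' ∈ uu V y₀, Tvg V b y₀ t' ∧
      ∃ w ∈ ws V b, (t * w * t⁻¹) * (t' * w * t'⁻¹)⁻¹ ∉ zpowers b) :
    ∀ y, Col V b y → y ≠ b → ∀ u ∈ uu V y, ∀ w ∈ ws V b, Md b y u w := by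
  have hb : Col V b b := hy₀.left
  set W := ws V b with hW
  set Y := zpowers b with hY
  set C := centralizer ({b} : Set G) with hC
  have hWC : W ≤ C := h.fr.ws_le_cent hb
  have hbW : b ∈ W := h.fr.mem_ws_self hb
  have hbb : b * b = 1 := h.fr.pt_sq hb
  have nW : C ≤ normalizer (W : Set G) := centralizer_le_normalizer_ws V b
  have nY : C ≤ normalizer (Y : Set G) := zpowers_norm le_rfl
  have hN : (Y.subgroupOf W).Normal := normal_subgroupOf_of_le_normalizer (hWC.trans nY)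
  let _ := conjAct nW nY
  let mk : W →* (W ⧸ Y.subgroupOf W) := QuotientGroup.mk' (Y.subgroupOf W)
  have hmk : Function.Surjective mk := QuotientGroup.mk'_surjective _
  have hmem : ∀ (g : C) (x : W), (g : G) * x * (g : G)⁻¹ ∈ W := fun g x =>
    (mem_normalizer_iff.1 (nW g.2) x).1 x.2
  have hsm : ∀ (g : C) (x : W), g • mk x = mk ⟨(g : G) * x * (g : G)⁻¹, hmem g x⟩ := fun _ _ => rfl
  have hone : ∀ x y : W, mk x = mk y ↔ (x : G) * (y : G)⁻¹ ∈ Y := by
    intro x y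
    rw [← mul_inv_eq_one, ← map_inv, ← map_mul, ← MonoidHom.mem_ker, QuotientGroup.ker_mk']
    exact Iff.rfl
  have hone' : ∀ x : W, mk x = 1 ↔ (x : G) ∈ Y := by
    intro x
    rw [← MonoidHom.mem_ker, QuotientGroup.ker_mk']
    exact Iff.rfl
  have hfix : ∀ (g : C) (x : W), g • mk x = mk x ↔ (g : G) * x * (g : G)⁻¹ * (x : G)⁻¹ ∈ Y := by
    intro g x
    rw [hsm g x, hone]
  have hcommW := h.fr.ws_comm hb
  have hsqW := h.fr.ws_sq hb
  -- points
  let Om : Set (W ⧸ Y.subgroupOf W) := {m | ∃ y, ∃ hy : Col V b y, y ≠ b ∧ m = mk ⟨y, h.fr.mem_ws_of_col hy⟩}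
  let X : G → Subgroup C := fun y => (uu V y ⊔ kq V b).subgroupOf C
  let Q : (W ⧸ Y.subgroupOf W) → Subgroup C := fun m =>
    ⨆ y : {y : G // ∃ hy : Col V b y, y ≠ b ∧ m = mk ⟨y, h.fr.mem_ws_of_col hy⟩}, X y
  have hkC : kq V b ≤ C := kq_le_centralizer V b
  have hUC : ∀ y, Col V b y → uu V y ≤ C := fun y hy => uu_le_centralizer h hy.symm
  have hX : ∀ y, Col V b y → y ≠ b → ∀ y', Col V b y' → y' ≠ b → y * y'⁻¹ ∈ Y → X y' ≤ X y := by
    intro y hy hyb y' hy' hyb' hyy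
    have hyi : y'⁻¹ = y' := inv_eq_self (h.fr.pt_sq hy'.right)
    rcases (mem_zpowers_iff_of_mul_self hbb).mp hyy with e | e
    · rw [mul_inv_eq_one.mp e]
    · -- `y' = b y`
      have e1 : y' = b * y := by
        have e2 : y = b * y' := by rw [← e, inv_mul_cancel_right]
        rw [e2, ← mul_assoc, hbb, one_mul]
      obtain ⟨g, h1, h2, h3, h4⟩ := id hy
      obtain ⟨m, hm, -, hmm⟩ := h.fr.mover_cj h1 h3
      have hmy : m * y * m⁻¹ = y' := by rw [e1]; exact hmm y h2 h4 hyb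
      have h5 : uu V y' ≤ uu V y ⊔ kq V b := by
        rw [← hmy, ← cj_uu]
        rw [cj_le_iff]
        intro u hu
        rw [mem_cj]
        have e3 : m⁻¹⁻¹ * u * m⁻¹ = u * (u⁻¹ * m * u) * m⁻¹ := by group
        rw [e3]
        refine mul_mem (mul_mem (mem_sup_left hu) (mem_sup_right ?_)) (mem_sup_right (inv_mem hm))
        exact conj_mem_of_normalizer' (centralizer_le_normalizer_kq V b) (hUC y hy hu) hm
      intro u hu
      exact (sup_le h5 le_sup_right) hu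
  have hQ : ∀ y (hy : Col V b y), y ≠ b → Q (mk ⟨y, h.fr.mem_ws_of_col hy⟩) = X y := by
    intro y hy hyb
    refine le_antisymm (iSup_le ?_) ?_
    · rintro ⟨y', hy', hyb', e⟩
      exact hX y hy hyb y' hy' hyb' ((hone _ _).mp e)
    · exact le_iSup (fun y : {y' : G // ∃ hy' : Col V b y', y' ≠ b ∧ mk ⟨y, h.fr.mem_ws_of_col hy⟩ =
        mk ⟨y', h.fr.mem_ws_of_col hy'⟩} => X y) ⟨y, hy, hyb, rfl⟩
  have hOm : ∀ y (hy : Col V b y), y ≠ b → mk ⟨y, h.fr.mem_ws_of_col hy⟩ ∈ Om := fun y hy hyb => ⟨y, hy, hyb, rfl⟩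
  -- conjugates of points
  have hcol : ∀ (g : C) (y : G), Col V b y → Col V b ((g : G) * y * (g : G)⁻¹) := by
    intro g y hy
    have h1 := hy.conj (g : G)
    have h2 : (g : G) * b * (g : G)⁻¹ = b := by
      rw [mem_centralizer_singleton_iff.mp g.2, mul_inv_cancel_right]
    rwa [h2] at h1
  have hneb : ∀ (g : C) (y : G), y ≠ b → (g : G) * y * (g : G)⁻¹ ≠ b := by
    intro g y hy e
    apply hy
    calc y = (g : G)⁻¹ * ((g : G) * y * (g : G)⁻¹) * g := by group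
      _ = (g : G)⁻¹ * (b * g) := by rw [e]; group
      _ = b := by rw [← mem_centralizer_singleton_iff.mp g.2, inv_mul_cancel_left]
  -- elements of `K_b` act trivially
  have hkact : ∀ g : C, (g : G) ∈ kq V b → ∀ m : W ⧸ Y.subgroupOf W, g • m = m := by
    intro g hg m
    obtain ⟨x, rfl⟩ := hmk m
    exact (hfix g x).mpr (kq_comm hg x.2)
  have hkact' : ∀ g : C, (∀ m : W ⧸ Y.subgroupOf W, g • m = m) → (g : G) ∈ kq V b := by
    intro g hg
    refine ⟨g.2, fun w hw => (hfix g ⟨w, hw⟩).mp (hg _), fun w hw => ?_⟩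
    have h1 : g⁻¹ • mk ⟨w, hw⟩ = mk ⟨w, hw⟩ := by rw [inv_smul_eq_iff, hg]
    have h2 := (hfix g⁻¹ ⟨w, hw⟩).mp h1
    have e : ((g⁻¹ : C) : G) * w * ((g⁻¹ : C) : G)⁻¹ * w⁻¹ = (g : G)⁻¹ * w * g * w⁻¹ := by
      rw [InvMemClass.coe_inv, inv_inv]
    rw [← e]
    exact h2
  -- `C / K_b`
  have hKn : ((kq V b).subgroupOf C).Normal :=
    normal_subgroupOf_of_le_normalizer (centralizer_le_normalizer_kq V b)
  let π : C →* C ⧸ (kq V b).subgroupOf C := QuotientGroup.mk' ((kq V b).subgroupOf C)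
  have hπ : ∀ y, Col V b y → ∀ g ∈ X y, ∃ v : C, (v : G) ∈ uu V y ∧ π v = π g := by
    intro y hy g hg
    have h1 : (uu V y ⊔ kq V b) ≤ ((((uu V y).subgroupOf C).map π).comap π).map C.subtype := by
      refine sup_le (fun v hv => ⟨⟨v, hUC y hy hv⟩, mem_comap.mpr ⟨_, hv, rfl⟩, rfl⟩) fun k hk => ?_
      refine ⟨⟨k, hkC hk⟩, mem_comap.mpr ⟨1, one_mem _, ?_⟩, rfl⟩
      rw [map_one]
      exact ((QuotientGroup.eq_one_iff (N := (kq V b).subgroupOf C) (⟨k, hkC hk⟩ : C)).mpr hk).symm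
    obtain ⟨u', hu', e⟩ := h1 (show (g : G) ∈ uu V y ⊔ kq V b from hg)
    have e' : u' = g := Subtype.ext e
    subst e'
    obtain ⟨v, hv, hve⟩ := mem_comap.mp hu'
    exact ⟨v, hv, hve⟩
  have hπact : ∀ g g' : C, π g = π g' → ∀ m : W ⧸ Y.subgroupOf W, g • m = g' • m := by
    intro g g' e m
    have h1 : π (g'⁻¹ * g) = 1 := by rw [map_mul, map_inv, e, inv_mul_cancel]
    have h2 := hkact _ ((QuotientGroup.eq_one_iff (N := (kq V b).subgroupOf C) _).mp h1) m
    rw [mul_smul, inv_smul_eq_iff] at h2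
    exact h2
  have htvM : ∀ t (ht : t ∈ uu V y₀), (∀ w ∈ ws V b, Md b y₀ t w) →
      TQ.Tv (mk ⟨y₀, h.fr.mem_ws_of_col hy₀⟩) (⟨t, hUC y₀ hy₀ ht⟩ : C) := by
    intro t ht hmd m
    obtain ⟨x, rfl⟩ := hmk m
    rcases hmd x x.2 with e | e
    · exact Or.inl ((hfix ⟨t, hUC y₀ hy₀ ht⟩ x).mpr e)
    · right
      rw [hsm, ← map_mul, hone]
      change t * x * t⁻¹ * (y₀ * (x : G))⁻¹ ∈ Y
      have e2 : t * x * t⁻¹ * (x : G)⁻¹ * y₀⁻¹ = t * x * t⁻¹ * (y₀ * (x : G))⁻¹ := by group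
      rw [← e2]
      exact e
  have D : TQ.Dat Om Q :=
    { comm := by
        intro m m'
        obtain ⟨x, rfl⟩ := hmk m
        obtain ⟨x', rfl⟩ := hmk m'
        rw [← map_mul, ← map_mul]
        congr 1
        exact Subtype.ext (hcommW x x.2 x' x'.2)
      sq := by
        intro m
        obtain ⟨x, rfl⟩ := hmk m
        rw [← map_mul, hone']
        change (x : G) * x ∈ Y
        rw [hsqW x x.2]
        exact one_mem _
      ne := by
        rintro w ⟨y, hy, hyb, rfl⟩ e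
        rw [hone'] at e
        rcases (mem_zpowers_iff_of_mul_self hbb).mp e with e1 | e1
        · exact hy.right.ne_one e1
        · exact hyb e1
      smul := by
        rintro g w ⟨y, hy, hyb, rfl⟩
        exact ⟨(g : G) * y * (g : G)⁻¹, hcol g y hy, hneb g y hyb, rfl⟩
      trans := by
        rintro w ⟨y, hy, hyb, rfl⟩ w' ⟨y', hy', hyb', rfl⟩
        obtain ⟨g, h1, h2⟩ := exists_conj_flag h.fr hy hyb hy' hyb'
        have hg : g ∈ C := by
          rw [hC, mem_centralizer_singleton_iff]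
          calc g * b = (g * b * g⁻¹) * g := by group
            _ = b * g := by rw [h1]
        refine ⟨⟨g, hg⟩, ?_⟩
        rw [hsm]
        congr 1
        exact Subtype.ext h2
      span := by
        rw [eq_top_iff]
        intro m _
        have key : W ≤ ((closure Om).comap mk).map W.subtype := by
          refine ws_le fun L hL v hv => ?_
          have hvW : v ∈ W := le_ws hL hv
          refine ⟨⟨v, hvW⟩, ?_, rfl⟩
          rw [SetLike.mem_coe, mem_comap]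
          by_cases hv1 : v = 1
          · have : mk ⟨v, hvW⟩ = 1 := by
              rw [hone']
              change v ∈ Y
              rw [hv1]; exact one_mem _
            rw [this]; exact one_mem _
          by_cases hvb : v = b
          · have : mk ⟨v, hvW⟩ = 1 := by
              rw [hone']
              change v ∈ Y
              rw [hvb]; exact mem_zpowers b
            rw [this]; exact one_mem _
          · obtain ⟨⟨g, rfl⟩, hbL⟩ := hL
            exact subset_closure ⟨v, ⟨g, hbL, hv, hb.ne_one, hv1⟩, hvb, rfl⟩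
        obtain ⟨x, rfl⟩ := hmk m
        obtain ⟨x', hx', e⟩ := key x.2
        have : x' = x := Subtype.ext e
        rw [← this]
        exact hx'
      conj := by
        rintro g w ⟨y, hy, hyb, rfl⟩ u hu
        rw [hQ y hy hyb] at hu
        have e : g • mk ⟨y, h.fr.mem_ws_of_col hy⟩ =
          mk ⟨(g : G) * y * (g : G)⁻¹, h.fr.mem_ws_of_col (hcol g y hy)⟩ := rfl
        rw [e, hQ _ (hcol g y hy) (hneb g y hyb)]
        have h1 := conj_mem_cj (g := (g : G)) (show (u : G) ∈ uu V y ⊔ kq V b from hu)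
        have h2 : cj (g : G) (uu V y ⊔ kq V b) = uu V ((g : G) * y * (g : G)⁻¹) ⊔ kq V b := by
          rw [show cj (g : G) (uu V y ⊔ kq V b) = cj (g : G) (uu V y) ⊔ cj (g : G) (kq V b) from
            Subgroup.map_sup _ _ _, cj_uu, cj_kq, mem_centralizer_singleton_iff.mp g.2, mul_inv_cancel_right]
        rw [h2] at h1
        exact h1
      fix := by
        rintro w ⟨y, hy, hyb, rfl⟩ u hu
        rw [hQ y hy hyb] at hu
        have h1 : uu V y ⊔ kq V b ≤
            (MulAction.stabilizer C (mk ⟨y, h.fr.mem_ws_of_col hy⟩)).map C.subtype := by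
          refine sup_le (fun u hu => ⟨⟨u, hUC y hy hu⟩, ?_, rfl⟩) fun k hk => ⟨⟨k, hkC hk⟩, hkact _ hk _, rfl⟩
          refine (hfix ⟨u, hUC y hy hu⟩ ⟨y, h.fr.mem_ws_of_col hy⟩).mpr ?_
          change u * y * u⁻¹ * y⁻¹ ∈ Y
          have h2 := mem_centralizer_iff.mp (h.uu_le_cent y hu) y (h.fr.mem_ws_self hy.right)
          rw [← h2, mul_inv_cancel_right, mul_inv_cancel]
          exact one_mem _
        obtain ⟨u', hu', e⟩ := h1 (show (u : G) ∈ uu V y ⊔ kq V b from hu)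
        have : u' = u := Subtype.ext e
        rw [← this]
        exact hu'
      two := by
        rintro w ⟨y, hy, hyb, rfl⟩ u hu
        rw [hQ y hy hyb] at hu
        obtain ⟨v, hv, hve⟩ := hπ y hy u hu
        obtain ⟨k, hk⟩ := h.isPGroup_uu y ⟨(v : G), hv⟩
        refine ⟨k, hkact _ ?_⟩
        have h2 : v ^ 2 ^ k = 1 := by
          have := congrArg Subtype.val hk
          rw [SubmonoidClass.coe_pow, OneMemClass.coe_one] at this
          apply Subtype.ext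
          rw [SubmonoidClass.coe_pow]
          exact this
        have h3 : π (u ^ 2 ^ k) = 1 := by rw [map_pow, ← hve, ← map_pow, h2, map_one]
        exact (QuotientGroup.eq_one_iff (N := (kq V b).subgroupOf C) _).mp h3
      o2 := by
        intro N hN hN2 n hn m
        refine hkact n ?_ m
        have h1 : N.map C.subtype ≤ kq V b := by
          refine le_kq_pt h.fr hb ?_ ?_ ?_
          · rintro _ ⟨n, -, rfl⟩
            exact n.2
          · refine le_normalizer_of_forall ?_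
            rintro g hg _ ⟨n, hn, rfl⟩
            exact ⟨⟨g, hg⟩ * n * ⟨g, hg⟩⁻¹, hN _ n hn, rfl⟩
          · rintro _ ⟨n, hn, rfl⟩
            refine ⟨1, ?_⟩
            have h2 := hkact' (n * n) fun m => by rw [mul_smul]; exact hN2 n hn m
            rw [pow_one, pow_two]
            exact h2
        exact h1 ⟨n, hn, rfl⟩
      tv := by
        refine ⟨_, hOm y₀ hy₀ hne₀, ⟨t, hUC y₀ hy₀ ht⟩, ?_, htvM t ht htv.md, ?_⟩
        · rw [hQ y₀ hy₀ hne₀]
          exact mem_sup_left (T := kq V b) ht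
        · obtain ⟨w, hw, hn⟩ := htv.ne
          exact ⟨mk ⟨w, hw⟩, fun e => hn ((hfix ⟨t, hUC y₀ hy₀ ht⟩ ⟨w, hw⟩).mp e)⟩ }
  have hfin : ∀ y (hy : Col V b y), y ≠ b → (∀ g ∈ Q (mk ⟨y, h.fr.mem_ws_of_col hy⟩),
      TQ.Tv (mk ⟨y, h.fr.mem_ws_of_col hy⟩) g) → ∀ u ∈ uu V y, ∀ w ∈ ws V b, Md b y u w := by
    intro y hy hyb hT u hu w hw
    have h1 := hT ⟨u, hUC y hy hu⟩ (by rw [hQ y hy hyb]; exact mem_sup_left (T := kq V b) hu) (mk ⟨w, hw⟩)
    rcases h1 with e | e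
    · exact Or.inl ((hfix ⟨u, hUC y hy hu⟩ ⟨w, hw⟩).mp e)
    · right
      rw [hsm, ← map_mul, hone] at e
      have e2 : u * w * u⁻¹ * w⁻¹ * y⁻¹ = u * w * u⁻¹ * (y * w)⁻¹ := by group
      rw [e2]
      exact e
  intro y hy hyb
  refine hfin y hy hyb fun g hg => ?_
  rcases hcase with hquad | ⟨t', ht', htv', hne'⟩
  · refine D.tq ?_ (hOm y hy hyb) hg
    rintro w ⟨y', hy', hyb', rfl⟩ g hg g' hg' m
    rw [hQ y' hy' hyb'] at hg hg'
    obtain ⟨v, hv, hve⟩ := hπ y' hy' g hg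
    obtain ⟨v', hv', hve'⟩ := hπ y' hy' g' hg'
    rw [← hπact v g hve m, ← hπact v' g' hve']
    obtain ⟨x, rfl⟩ := hmk m
    rw [hsm, ← map_inv, ← map_mul, hfix]
    exact hquad y' hy' hyb' v hv v' hv' x x.2
  · refine D.tqBig (hOm y₀ hy₀ hne₀) (t := ⟨t, hUC y₀ hy₀ ht⟩) (t' := ⟨t', hUC y₀ hy₀ ht'⟩) ?_ ?_
      (htvM t ht htv.md) (htvM t' ht' htv'.md) ?_ ?_ ?_ (hOm y hy hyb) hg
    · rw [hQ y₀ hy₀ hne₀]
      exact mem_sup_left (T := kq V b) ht
    · rw [hQ y₀ hy₀ hne₀]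
      exact mem_sup_left (T := kq V b) ht'
    · obtain ⟨w, hw, hn⟩ := htv.ne
      exact ⟨mk ⟨w, hw⟩, fun e => hn ((hfix ⟨t, hUC y₀ hy₀ ht⟩ ⟨w, hw⟩).mp e)⟩
    · obtain ⟨w, hw, hn⟩ := htv'.ne
      exact ⟨mk ⟨w, hw⟩, fun e => hn ((hfix ⟨t', hUC y₀ hy₀ ht'⟩ ⟨w, hw⟩).mp e)⟩
    · obtain ⟨w, hw, hn⟩ := hne'
      refine ⟨mk ⟨w, hw⟩, fun e => hn ?_⟩
      rw [hsm, hsm, hone] at e
      exact e

/-- `[W_b, U_y] ≤ ⟨b, y⟩` for one point `b` and all `y ~ b` : TYPE N -/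
theorem tyN_of_md (h : Two T V z) (hb : Col V b b)
    (hmd : ∀ y, Col V b y → y ≠ b → ∀ u ∈ uu V y, ∀ w ∈ ws V b, Md b y u w) : TyN T V z := by
  refine { h with n := ?_ }
  intro a r b' har hrb x hx y hy
  by_cases hcom : Com V a b'
  · rw [hcom x hx y hy, mul_inv_cancel_right, mul_inv_cancel]
    exact one_mem _
  have hm : Mid T V z a r b' := { h with pr := har, rq := hrb, ne := hcom }
  -- conjugate `b'` to `b`
  obtain ⟨g, hg⟩ := h.fr.exists_conj hrb.right hb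
  have hm' := hm.conj g
  rw [hg] at hm'
  have h1 := hmd _ hm'.rq.symm hm'.ne_rq _ (ws_le_uu hm'.pr.symm (conj_mem_ws g hx)) (g * y * g⁻¹) (by
    have := conj_mem_ws g hy
    rwa [hg] at this)
  set x' := g * x * g⁻¹
  set y' := g * y * g⁻¹
  set r' := g * r * g⁻¹
  have hc : x' * y' * x'⁻¹ * y'⁻¹ ∈ ws V (g * a * g⁻¹) ⊓ ws V b := by
    refine hm'.comm_mem (conj_mem_ws g hx) ?_
    have := conj_mem_ws g hy
    rwa [hg] at this
  have hbb := h.fr.pt_sq hb
  have h2 : x' * y' * x'⁻¹ * y'⁻¹ ∈ zpowers r' := by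
    refine hm'.mem_zpowers_of (mem_inf.mp hc).1 ?_
    rcases h1 with e | e
    · rcases (mem_zpowers_iff_of_mul_self hbb).mp e with e | e
      · exact Or.inl e
      · exact Or.inr (Or.inr (Or.inl e))
    · have hcomm : b * r' = r' * b := (h.fr.col_comm hm'.rq).symm
      rcases (mem_zpowers_iff_of_mul_self hbb).mp e with e | e
      · exact Or.inr (Or.inl (mul_inv_eq_one.mp e))
      · right; right; right
        rw [← hcomm, ← e, inv_mul_cancel_right]
  have h3 := conj_mem_cj (g := g⁻¹) h2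
  have e1 : cj g⁻¹ (zpowers r') = zpowers r := by
    have : cj g⁻¹ (zpowers r') = zpowers (g⁻¹ * r' * g⁻¹⁻¹) := MonoidHom.map_zpowers _ _
    rw [this]
    congr 1
    change g⁻¹ * (g * r * g⁻¹) * g⁻¹⁻¹ = r
    group
  rw [e1] at h3
  have e2 : g⁻¹ * (x' * y' * x'⁻¹ * y'⁻¹) * g⁻¹⁻¹ = x * y * x⁻¹ * y⁻¹ := by
    change g⁻¹ * (g * x * g⁻¹ * (g * y * g⁻¹) * (g * x * g⁻¹)⁻¹ * (g * y * g⁻¹)⁻¹) * g⁻¹⁻¹ = _
    group
  rwa [e2] at h3

/-- **THEOREM TQ** : one transvection, quadratic -/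
theorem tyN_of_tv (h : Two T V z) (hq : QuadB V b) (hy : Col V b y) (hne : y ≠ b) {t : G} (ht : t ∈ uu V y)
    (htv : Tvg V b y t) : TyN T V z :=
  tyN_of_md h hy.left (md_of h hy hne ht htv (Or.inl hq))

/-- **THEOREM TQ'** : two transvections -/
theorem tyN_of_two (h : Two T V z) (hy : Col V b y) (hne : y ≠ b) {t t' : G} (ht : t ∈ uu V y) (ht' : t' ∈ uu V y)
    (htv : Tvg V b y t) (htv' : Tvg V b y t') (hw : ∃ w ∈ ws V b, (t * w * t⁻¹) * (t' * w * t'⁻¹)⁻¹ ∉ zpowers b) :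
    TyN T V z :=
  tyN_of_md h hy.left (md_of h hy hne ht htv (Or.inr ⟨t', ht', htv', hw⟩))

/-- TYPE N, or `U_r` contains no transvection of `M_b` with centre `r` (this is `Tq V` of `Opp.lean`) -/
theorem tyN_or_tq (h : Two T V z) (hq : ∀ b, Col V b b → QuadB V b) :
    TyN T V z ∨ ∀ b r, Col V b r → b ≠ r → ∀ u ∈ uu V r,
      (∀ w ∈ ws V b, u * w * u⁻¹ * w⁻¹ ∈ closure {b, r}) → ∀ w ∈ ws V b, u * w * u⁻¹ * w⁻¹ ∈ zpowers b := by
  by_cases hN : TyN T V z
  · exact Or.inl hN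
  right
  intro b r hbr hne u hu hcl
  by_contra hcon
  push Not at hcon
  refine hN (tyN_of_tv h (hq b hbr.left) hbr (Ne.symm hne) hu ⟨fun w hw => ?_, hcon⟩)
  have hbb := h.fr.pt_sq hbr.left
  have hrr := h.fr.pt_sq hbr.right
  have hcomm := h.fr.ws_comm hbr.left
  have hbW := h.fr.mem_ws_self hbr.left
  have hrW := h.fr.mem_ws_of_col hbr
  have hle : closure {b, r} ≤ zpowers b ⊔ zpowers r := by
    rw [closure_le]
    rintro y (rfl | rfl)
    · exact mem_sup_left (mem_zpowers _)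
    · exact mem_sup_right (mem_zpowers _)
  obtain ⟨i, hi, j, hj, e⟩ := mem_sup_of_comm hcomm (zpowers_le.mpr hbW) (zpowers_le.mpr hrW) (hle (hcl w hw))
  rcases (mem_zpowers_iff_of_mul_self hrr).mp hj with e' | e'
  · left
    rw [e, e', mul_one]
    exact hi
  · right
    rw [e, e', mul_inv_cancel_right]
    exact hi

end

end Cfsg.Agent.Omega.NO3S.TwoMid
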