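import Cfsg.Agent.Omega.NO3S.TwoMid.Alpha
import Cfsg.Agent.Omega.NO3S.TwoMid.TQPlug

/-!
# NO-3S, `|V| = 4`, critical distance 2 (TwoMid): THEOREM 2 of helper502 (#17909)

`Sit T V z a r b f h`, `x = h r h⁻¹`: if `[W_x, W_r] = ⟨b⟩`, then TYPE N (`Sit.tyN`), and `[W_x, W_r] ≠ 1`, not TYPE N imply
`[W_x, W_r] ≰ ⟨b⟩` (`Sit.not_le`).  No (NO), no `N_b = ⟨b⟩`.

* `Sit.exists_sqrt` : `k² = h`; `h f = k f k⁻¹` interchanges `r` and `x`;
* `Sit.form_symm`, `Sit.form_self` : `(w, w') ↦ [w, h w' h⁻¹]` is symmetric and alternating on `W_r`.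
-/

set_option autoImplicit false
set_option linter.unusedSectionVars false

namespace Cfsg.Agent.Omega.NO3S.TwoMid.Alpha

open Subgroup Cfsg Cfsg.Agent.ZN Cfsg.Agent.MinSimple.Geo Cfsg.Agent.Omega.CaseL Cfsg.Agent.Omega.NO3S.TwoOne
  Cfsg.Agent.Omega.NO3S.Pt Cfsg.Agent.Omega.NO3S.TwoMid
open Cfsg.Agent.ZN.Block (conj_mem_of_normalizer conj_mem_of_normalizer' le_normalizer_of_forall
  mem_normalizer_of)

universe u

variable {G : Type u} [Group G] {T V : Subgroup G} {z : G} {a b r f h : G}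

namespace Sit

variable [Finite G] (s : Sit T V z a r b f h)
include s

/-- a square root of `h` in `⟨h⟩` -/
theorem exists_sqrt : ∃ k : G, k * k = h ∧ Iv b f k := by
  obtain ⟨k, hk⟩ := s.iv.odd
  refine ⟨h ^ (k + 1), ?_, s.iv.pow _⟩
  rw [← pow_add, show k + 1 + (k + 1) = orderOf h + 1 by omega, pow_succ, pow_orderOf_eq_one, one_mul]

theorem hf_sq : (h * f) * (h * f) = 1 := by
  have hi := s.iv.inv
  calc (h * f) * (h * f) = h * (f * h * f⁻¹) * (f * f) := by group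
    _ = 1 := by rw [hi, mul_inv_cancel, s.ff, one_mul]

theorem hf_inv : (h * f)⁻¹ = h * f := inv_eq_of_mul_eq_one_left s.hf_sq

/-- `h f` acts on `W_r` as `h` -/
theorem hf_conj {w : G} (hw : w ∈ ws V r) : (h * f) * w * (h * f)⁻¹ = h * w * h⁻¹ := by
  have h1 : f * w = w * f := (mem_centralizer_iff.mp (s.mid.toTwo.ws_le_cent s.mid.pr s.f_mem) w hw).symm
  calc (h * f) * w * (h * f)⁻¹ = h * (f * w) * f⁻¹ * h⁻¹ := by group
    _ = h * w * h⁻¹ := by rw [h1]; group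

theorem hf_conj' {w : G} (hw : w ∈ ws V r) : (h * f) * (h * w * h⁻¹) * (h * f)⁻¹ = w := by
  rw [← s.hf_conj hw]
  calc (h * f) * ((h * f) * w * (h * f)⁻¹) * (h * f)⁻¹ = ((h * f) * (h * f)) * w * ((h * f) * (h * f))⁻¹ := by group
    _ = w := by rw [s.hf_sq]; group

theorem hf_b : (h * f) * b = b * (h * f) := mul_comm_of s.iv.cb s.fb

variable (hR : rr V (h * r * h⁻¹) r ≤ zpowers b)
include hR

/-- the values of the form -/
theorem form_mem {w w' : G} (hw : w ∈ ws V r) (hw' : w' ∈ ws V r) :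
    w * (h * w' * h⁻¹) * w⁻¹ * (h * w' * h⁻¹)⁻¹ ∈ zpowers b := by
  apply hR
  rw [rr_comm]
  exact comm_mem_rr hw (conj_mem_ws h hw')

theorem form_symm {w w' : G} (hw : w ∈ ws V r) (hw' : w' ∈ ws V r) :
    w * (h * w' * h⁻¹) * w⁻¹ * (h * w' * h⁻¹)⁻¹ = w' * (h * w * h⁻¹) * w'⁻¹ * (h * w * h⁻¹)⁻¹ := by
  have h1 := s.form_mem hR hw hw'
  have h2 := s.form_mem hR hw' hw
  -- conjugation by `h f`
  have h3 : (h * f) * (w * (h * w' * h⁻¹) * w⁻¹ * (h * w' * h⁻¹)⁻¹) * (h * f)⁻¹ =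
      (w' * (h * w * h⁻¹) * w'⁻¹ * (h * w * h⁻¹)⁻¹)⁻¹ := by
    calc (h * f) * (w * (h * w' * h⁻¹) * w⁻¹ * (h * w' * h⁻¹)⁻¹) * (h * f)⁻¹
        = ((h * f) * w * (h * f)⁻¹) * ((h * f) * (h * w' * h⁻¹) * (h * f)⁻¹) * ((h * f) * w * (h * f)⁻¹)⁻¹ *
          ((h * f) * (h * w' * h⁻¹) * (h * f)⁻¹)⁻¹ := by group
      _ = (h * w * h⁻¹) * w' * (h * w * h⁻¹)⁻¹ * w'⁻¹ := by rw [s.hf_conj hw, s.hf_conj' hw']
      _ = _ := by group
  have h4 : (h * f) * (w * (h * w' * h⁻¹) * w⁻¹ * (h * w' * h⁻¹)⁻¹) * (h * f)⁻¹ =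
      w * (h * w' * h⁻¹) * w⁻¹ * (h * w' * h⁻¹)⁻¹ := conj_zpowers_of_comm s.hf_b h1
  rw [← h4, h3]
  rcases (mem_zpowers_iff_of_mul_self s.bb).mp h2 with e | e
  · rw [e, inv_one]
  · rw [e, inv_eq_of_mul_eq_one_left s.bb]

theorem form_self {w : G} (hw : w ∈ ws V r) : w * (h * w * h⁻¹) * w⁻¹ * (h * w * h⁻¹)⁻¹ = 1 := by
  obtain ⟨k, hkk, ik⟩ := s.exists_sqrt
  have hT := s.mid.toTwo
  have hfk : k * f * k⁻¹ = h * f := by
    have := ik.symm.inv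
    rw [inv_inv] at this
    calc k * f * k⁻¹ = k * (f * k⁻¹ * f⁻¹) * f := by group
      _ = h * f := by rw [this, hkk]
  -- `a' ~ r' ~ b`
  have hkb : k * b * k⁻¹ = b := by rw [ik.cb, mul_inv_cancel_right]
  have hm := s.mid.conj k
  rw [hkb] at hm
  have hf' : h * f ∈ ws V (k * a * k⁻¹) := by rw [← hfk]; exact conj_mem_ws k s.f_mem
  -- `w` fixes `r'`
  have hwr : w * (k * r * k⁻¹) * w⁻¹ = k * r * k⁻¹ := by
    have h1 := hT.com s.mid.rq w hw (k * r * k⁻¹) (s.mid.fr.mem_ws_of_col hm.rq.symm)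
    rw [h1, mul_inv_cancel_right]
  have hcol : Col V (k * r * k⁻¹) (w * (k * a * k⁻¹) * w⁻¹) := by
    have := hm.pr.symm.conj w
    rwa [hwr] at this
  have hc := hT.comm_mem hm.pr hcol hf' (conj_mem_ws w hf')
  have hww : w * w = 1 := s.mid.fr.ws_sq s.mid.rq.left w hw
  have hwi : w⁻¹ = w := inv_eq_of_mul_eq_one_left hww
  have hv : h * w * h⁻¹ = (h * f) * w * (h * f) := by
    rw [← s.hf_conj hw, s.hf_inv]
  have hmem := s.form_mem hR hw hw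
  -- the commutator
  have e1 : h * f * (w * (h * f) * w⁻¹) * (h * f)⁻¹ * (w * (h * f) * w⁻¹)⁻¹ =
      w⁻¹ * (w * (h * w * h⁻¹) * w⁻¹ * (h * w * h⁻¹)⁻¹) * w := by
    rw [hv]
    generalize hg : h * f = g
    have hgi : g⁻¹ = g := by rw [← hg]; exact s.hf_inv
    simp only [mul_inv_rev, hgi, hwi]
    calc g * (w * g * w) * g * (w * (g * w)) = g * w * g * w * g * w * g * w := by simp only [mul_assoc]
      _ = (w * w) * (g * w * g * w * g * w * g * w) := by rw [hww, one_mul]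
      _ = _ := by simp only [mul_assoc]
  have hwb : w * b = b * w := (hT.com s.mid.rq w hw b s.b_b)
  rw [e1] at hc
  have e2 : w⁻¹ * (w * (h * w * h⁻¹) * w⁻¹ * (h * w * h⁻¹)⁻¹) * w =
      w * (h * w * h⁻¹) * w⁻¹ * (h * w * h⁻¹)⁻¹ := by
    have := conj_zpowers_of_comm (g := w⁻¹) (inv_comm_of hwb) hmem
    rwa [inv_inv] at this
  rw [e2] at hc
  rcases (mem_zpowers_iff_of_mul_self s.bb).mp hmem with e | e
  · exact e
  · rw [e] at hc
    exact absurd (mem_inf.mp hc).1 hm.not_mem'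

/-- **THEOREM 2** (helper502) -/
theorem tyN (hne : ¬ Com V (h * r * h⁻¹) r) : TyN T V z := by
  have hT := s.mid.toTwo
  obtain ⟨u, hu, w₁, hw₁, hcom⟩ : ∃ u ∈ ws V (h * r * h⁻¹), ∃ w ∈ ws V r, u * w ≠ w * u := by
    by_contra hcon
    push Not at hcon
    exact hne fun u hu w hw => hcon u hu w hw
  set w₂ := h⁻¹ * u * h with hw₂d
  have hw₂ : w₂ ∈ ws V r := by
    rw [← cj_ws] at hu
    exact mem_cj.mp hu
  have hu2 : h * w₂ * h⁻¹ = u := by rw [hw₂d]; group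
  set F : G → G → G := fun w w' => w * (h * w' * h⁻¹) * w⁻¹ * (h * w' * h⁻¹)⁻¹ with hF
  have hF12 : F w₁ w₂ = b := by
    rcases (mem_zpowers_iff_of_mul_self s.bb).mp (s.form_mem hR hw₁ hw₂) with e | e
    · exfalso
      apply hcom
      have e' : w₁ * u * w₁⁻¹ * u⁻¹ = 1 := by rw [← hu2]; exact e
      calc u * w₁ = (w₁ * u * w₁⁻¹ * u⁻¹)⁻¹ * (w₁ * u) := by group
        _ = w₁ * u := by rw [e', inv_one, one_mul]
    · exact e
  have hF21 : F w₂ w₁ = b := by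
    rw [← hF12]
    exact (s.form_symm hR hw₁ hw₂).symm
  have hF11 : F w₁ w₁ = 1 := s.form_self hR hw₁
  have hF22 : F w₂ w₂ = 1 := s.form_self hR hw₂
  have hxb : Col V b (h * r * h⁻¹) := s.bx
  have hbr : b ≠ r := s.mid.ne_rq.symm
  have hcv : ∀ w w', (h * w' * h⁻¹) * w * (h * w' * h⁻¹)⁻¹ * w⁻¹ = (F w w')⁻¹ := by
    intro w w'
    rw [hF]
    group
  have hbi : b⁻¹ = b := inv_eq_of_mul_eq_one_left s.bb
  have hb1 : b ≠ 1 := s.mid.rq.right.ne_one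
  have hbz : b ∉ zpowers r := by
    intro e
    rcases (mem_zpowers_iff_of_mul_self s.rr1).mp e with e | e
    · exact hb1 e
    · exact hbr e
  have hmd : ∀ w' ∈ ws V r, ∀ w ∈ ws V r, Md r b (h * w' * h⁻¹) w := by
    intro w' hw' w hw
    unfold Md
    rw [hcv]
    rcases (mem_zpowers_iff_of_mul_self s.bb).mp (s.form_mem hR hw hw') with e | e
    · left
      change (w * (h * w' * h⁻¹) * w⁻¹ * (h * w' * h⁻¹)⁻¹)⁻¹ ∈ _
      rw [e, inv_one]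
      exact one_mem _
    · right
      change (w * (h * w' * h⁻¹) * w⁻¹ * (h * w' * h⁻¹)⁻¹)⁻¹ * b⁻¹ ∈ _
      rw [e, hbi, s.bb]
      exact one_mem _
  refine tyN_of_two hT (b := r) (y := b) s.mid.rq hbr
    (ws_le_uu hxb (conj_mem_ws h hw₁)) (ws_le_uu hxb (conj_mem_ws h hw₂))
    ⟨hmd w₁ hw₁, w₂, hw₂, ?_⟩ ⟨hmd w₂ hw₂, w₁, hw₁, ?_⟩ ⟨w₁, hw₁, ?_⟩
  · rw [hcv, hF21, hbi]
    exact hbz
  · rw [hcv, hF12, hbi]
    exact hbz
  · have e1 : (h * w₁ * h⁻¹) * w₁ * (h * w₁ * h⁻¹)⁻¹ = w₁ := by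
      have := hcv w₁ w₁
      rw [hF11, inv_one] at this
      exact mul_inv_eq_one.mp this
    have e2 : (h * w₂ * h⁻¹) * w₁ * (h * w₂ * h⁻¹)⁻¹ = b * w₁ := by
      have := hcv w₁ w₂
      rw [hF12, hbi] at this
      exact mul_inv_eq_iff_eq_mul.mp this
    rw [e1, e2]
    have e3 : w₁ * (b * w₁)⁻¹ = b := by rw [mul_inv_rev, mul_inv_cancel_left, hbi]
    rw [e3]
    exact hbz

end Sit

/-- not TYPE N, `(x, r)` critical: `[W_x, W_r] ≰ ⟨b⟩` -/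
theorem Sit.not_le [Finite G] (s : Sit T V z a r b f h) (hN : ¬ TyN T V z) (hne : ¬ Com V (h * r * h⁻¹) r) :
    ¬ rr V (h * r * h⁻¹) r ≤ zpowers b := fun hR => hN (s.tyN hR hne)

end Cfsg.Agent.Omega.NO3S.TwoMid.Alpha
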