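import Cfsg.Agent.Omega.NO3S.TwoMid.Opp
import Cfsg.Agent.Omega.NO3S.TwoMid.ThmTwo
import Cfsg.Agent.Omega.NO3S.TypeN.Main

/-!
# NO-3S, `|V| = 4`, critical distance 2 (TwoMid): assembly for `N_b = ⟨b⟩` (bb #19433 (A))

* `exists_of_not_tyN` : not TYPE N: a critical `(a, b)` with `[W_a, W_b] ≰ ⟨r⟩`;
* `Mid.false_nb_of` : contradiction from (NO), `N_b = ⟨b⟩`, beta dead and `inn`.
-/

set_option autoImplicit false
set_option linter.unusedSectionVars false

namespace Cfsg.Agent.Omega.NO3S.TwoMid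

open Subgroup Cfsg Cfsg.Agent.ZN Cfsg.Agent.MinSimple.Geo Cfsg.Agent.Omega.CaseL Cfsg.Agent.Omega.NO3S.TwoOne
  Cfsg.Agent.Omega.NO3S.Pt

universe u

variable {G : Type u} [Group G] {T V : Subgroup G} {z : G} {a b r : G}

theorem exists_of_not_tyN (h : Two T V z) (hN : ¬ TyN T V z) : ∃ a r b, Mid T V z a r b ∧ ¬ rr V a b ≤ zpowers r := by
  by_contra hno
  push Not at hno
  apply hN
  refine { h with n := ?_ }
  intro a r b har hrb x hx y hy
  by_cases hcom : Com V a b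
  · rw [hcom x hx y hy, mul_inv_cancel_right, mul_inv_cancel]
    exact one_mem _
  · exact hno a r b { h with pr := har, rq := hrb, ne := hcom } (comm_mem_rr hx hy)

/-- **(A)** for `N_b = ⟨b⟩` -/
theorem Mid.false_nb_of [Finite G] (h : Mid T V z a r b) (no : NOm V) (nb : NB V)
    (beta : ∀ a r b x f, DT T V z a r b x f → ¬ Com V x r)
    (inn : ∀ a r b, Mid T V z a r b → rr V a b ≤ ws V r → ws V a ≤ closure {u | u ∈ ws V a ∧
      ∃ c, ∀ w ∈ ws V b, u * w * u⁻¹ = w ∨ u * w * u⁻¹ = c * w}) : False := by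
  by_cases hN : TyN T V z
  · exact TypeN.false_of_tyN hN h
  obtain ⟨a, r, b, hm, hne⟩ := exists_of_not_tyN h.toTwo hN
  obtain ⟨f, g, s, hD⟩ := Alpha.exists_sit hm nb no hne
  have hdt : DT T V z a r b (g * r * g⁻¹) f :=
    { mid := hm
      col := s.bx
      mem := s.f_mem
      ne := s.fx_ne
      le := by rw [s.xf]; exact hD }
  have hcom := beta _ _ _ _ _ hdt
  have hm' : Mid T V z (g * r * g⁻¹) b r := { hm.toTwo with pr := hdt.col.symm, rq := hm.rq.symm, ne := hcom }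
  have hin : rr V (g * r * g⁻¹) r ≤ ws V b :=
    rr_le_of_D hm.toTwo hm.pr hm.rq.symm hdt.col hdt.mem hdt.le
  exact hm'.false_of_inner hin (s.not_le hN hcom) nb beta (inn _ _ _ hm' hin)

end Cfsg.Agent.Omega.NO3S.TwoMid
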