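import Cfsg.Agent.Omega.NOThree.LL.NoH
import Cfsg.Agent.Omega.NOThree.LL.RedMd
import Cfsg.Agent.Omega.NOThree.TF.MdEx
import Cfsg.Agent.Omega.NO3S.TwoMid.NOm
import Cfsg.Agent.Omega.NO3S.TwoMid.Beta.NO

/-!
# NO-3S, `|V| = 4`, critical distance 2 (TwoMid): (NO) from (ML)

* `nom_of_mlk` : `NOm V` if the `C(p)` are K-groups.
-/

set_option autoImplicit false
set_option linter.unusedSectionVars false

namespace Cfsg.Agent.Omega.NO3S.TwoMid

open Subgroup Cfsg Cfsg.Agent.ZN Cfsg.Agent.MinSimple.Geo Cfsg.Agent.Omega.CaseL Cfsg.Agent.Omega.NO3S.TwoOne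
  Cfsg.Agent.Omega.NO3S.Pt
open Cfsg.Agent.Omega.NOThree.TF (Md MM pim md_MM exists_T)
open Cfsg.Agent.Omega.NOThree.LL (mulAct finite_Md span_pt)
open Cfsg.Agent.Omega.ML.MinFrame (orb fxr orb_le smul_mem_orb_self)

universe u

variable {G : Type u} [Group G] {T V : Subgroup G} {z : G} {a b r : G}

/-- `K_b` is the kernel of `C(b)` on `M_b` -/
theorem smul_of_kq [Finite G] (h : Fr T V z) (hb : Col V b b) (md : Md V b (pim V b)) {g : centralizer ({b} : Set G)} :
    (∀ m : MM V b, g • m = m) ↔ (g : G) ∈ kq V b := by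
  have key : ∀ w ∈ ws V b, (g • pim V b w = pim V b w ↔ (g : G) * w * (g : G)⁻¹ * w⁻¹ ∈ zpowers b) := by
    intro w hw
    rw [← md.smul g w hw, md.eq_iff h hb (NOThree.TF.conj_mem_ws_of_mem g.2 hw) hw,
      mem_zpowers_iff_of_mul_self (h.pt_sq hb)]
    exact or_congr mul_inv_eq_one.symm mul_inv_eq_iff_eq_mul.symm
  constructor
  · intro hg
    exact Beta.mem_kq_of h hb (mem_centralizer_singleton_iff.mp g.2) fun w hw => (key w hw).1 (hg _)
  · intro hg m
    obtain ⟨w, hw, rfl⟩ := md.surj m
    exact (key w hw).2 (kq_comm hg hw)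

/-- **(NO) from (ML)** -/
theorem nom_of_mlk [Finite G] (hML : ML.Final.MLK.{u, u}) (h : Fr T V z)
    (hK : ∀ p : G, Col V p p → IsKGroup (centralizer ({p} : Set G))) : NOm V := by
  rintro b r hbr hne X ⟨N, hXN, hNC, hNn, hNf, hN2⟩ hsq
  have hbb := hbr.left
  have md := md_MM h hbb
  have hfin := finite_Md md
  have hrW := h.mem_ws_of_col hbr
  have two := md.two h hbb
  obtain ⟨T', hT', hTp, hT2, hT3, -, -⟩ := exists_T h hbr hne.symm
  have hker := fun g => smul_of_kq (g := g) h hbb md
  let _ : MulDistribMulAction (centralizer ({b} : Set G)) (Multiplicative (MM V b)) := mulAct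
  have he' : ∀ (g : centralizer ({b} : Set G)) (m : MM V b),
    g • (Multiplicative.ofAdd m) = Multiplicative.ofAdd (g • m) := fun _ _ => rfl
  have hr : ∀ g : centralizer ({b} : Set G), g • pim V b r = pim V b r ↔
      (g : G) * r * (g : G)⁻¹ = r ∨ (g : G) * r * (g : G)⁻¹ = b * r := by
    intro g
    rw [← md.smul g r hrW, md.eq_iff h hbb (NOThree.TF.conj_mem_ws_of_mem g.2 hrW) hrW]
  obtain ⟨l, hbl, hrl, hb1, hr1⟩ := id hbr
  obtain ⟨m, hm, -, hmm⟩ := h.mover_cj hbl hb1
  have hmr := hmm r hrl hr1 hne.symm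
  have hmC := kq_le_centralizer V b hm
  have hD : ML.Final.Dat (C := centralizer ({b} : Set G)) (V := Multiplicative (MM V b))
      (T'.subgroupOf (centralizer ({b} : Set G))) (N.subgroupOf (centralizer ({b} : Set G)))
      (X.subgroupOf (centralizer ({b} : Set G))) (Multiplicative.ofAdd (pim V b r)) := by
    refine ⟨fun v => two _, hTp.of_equiv (subgroupOfEquivOfLe hT').symm, hT2, fun t ht => ?_, fun q hq => ?_,
      fun q hq => ?_, fun g hg q hq => ?_, fun a ha => ⟨a, hXN ha, fun _ => rfl⟩, fun a ha v => ?_⟩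
    · rw [he', (hr t).2 (hT3 t (mem_subgroupOf.1 ht))]
    · obtain ⟨k, hk⟩ := hN2 q (mem_subgroupOf.1 hq)
      refine ⟨k, fun v => ?_⟩
      exact congrArg Multiplicative.ofAdd ((hker (q ^ 2 ^ k)).2 hk (Multiplicative.toAdd v))
    · have h1 : q • pim V b r = pim V b r := by
        rw [hr]
        rcases (mem_zpowers_iff_of_mul_self (h.pt_sq hbb)).mp (hNf q (mem_subgroupOf.1 hq)) with e | e
        · left; exact mul_inv_eq_one.mp e
        · right; exact mul_inv_eq_iff_eq_mul.mp e
      rw [he', h1]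
    · have h1 : g • pim V b r = pim V b r := congrArg Multiplicative.toAdd hg
      have hgb := mem_centralizer_singleton_iff.mp g.2
      rcases (hr g).1 h1 with e | e
      · exact ⟨g * q * g⁻¹, hNn g hgb (comm_of_conj_eq e) q (mem_subgroupOf.1 hq), fun _ => rfl⟩
      · -- `g = m s`
        set mc : centralizer ({b} : Set G) := ⟨m, hmC⟩ with hmc
        set s := mc⁻¹ * g with hs
        have hsr : (s : G) * r * (s : G)⁻¹ = r := by
          calc (s : G) * r * (s : G)⁻¹ = m⁻¹ * ((g : G) * r * (g : G)⁻¹) * m := by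
                rw [hs]
                change m⁻¹ * (g : G) * r * (m⁻¹ * (g : G))⁻¹ = _
                group
            _ = m⁻¹ * (m * r * m⁻¹) * m := by rw [e, hmr]
            _ = r := by group
        refine ⟨s * q * s⁻¹, hNn s (mem_centralizer_singleton_iff.mp s.2) (comm_of_conj_eq hsr) q
          (mem_subgroupOf.1 hq), fun v => ?_⟩
        have h2 : g * q * g⁻¹ = mc * (s * q * s⁻¹) * mc⁻¹ := by rw [hs]; group
        have h3 : ∀ v : Multiplicative (MM V b), mc • v = v := fun v =>
          congrArg Multiplicative.ofAdd ((hker mc).2 hm (Multiplicative.toAdd v))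
        rw [h2, mul_smul, mul_smul, h3]
        congr 1
        rw [inv_smul_eq_iff, h3]
    · rw [← mul_smul]
      exact congrArg Multiplicative.ofAdd ((hker (a * a)).2 (hsq a (mem_subgroupOf.1 ha)) (Multiplicative.toAdd v))
  have key := hML.act (hK b hbb) hD
  have horb : orb (⊤ : Subgroup (centralizer ({b} : Set G))) (Multiplicative.ofAdd (pim V b r)) = ⊤ := by
    rw [eq_top_iff]
    intro m _
    have h1 := span_pt h md hbr hne.symm (Multiplicative.toAdd m)
    have h2 : AddSubgroup.closure {v | ∃ g : centralizer ({b} : Set G), v = g • pim V b r} ≤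
        AddSubgroup.toSubgroup.symm (orb (⊤ : Subgroup (centralizer ({b} : Set G)))
          (Multiplicative.ofAdd (pim V b r))) := by
      rw [AddSubgroup.closure_le]
      rintro _ ⟨g, rfl⟩
      exact smul_mem_orb_self (z := Multiplicative.ofAdd (pim V b r)) (mem_top g)
    exact h2 h1
  rw [horb, relIndex_top_right] at key
  have h1 : fxr (centralizer ({b} : Set G)) (⊤ : Subgroup (Multiplicative (MM V b))) =
      (kq V b).subgroupOf (centralizer ({b} : Set G)) := by
    ext g
    rw [mem_subgroupOf, ← hker g]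
    constructor
    · exact fun hg m => hg (Multiplicative.ofAdd m) (mem_top _)
    · exact fun hg m _ => hg (Multiplicative.toAdd m)
  have hXC := hXN.trans hNC
  rw [h1, relIndex_subgroupOf hXC] at key
  unfold NoOv
  rw [inf_relIndex_left]
  refine key.trans (le_of_eq ?_)
  let φ : ws V b →* Multiplicative (MM V b) :=
    { toFun := fun w => Multiplicative.ofAdd (pim V b w)
      map_one' := by
        change Multiplicative.ofAdd (pim V b 1) = 1
        rw [md.map_one]; rfl
      map_mul' := fun v w => by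
        change Multiplicative.ofAdd (pim V b ((v : G) * (w : G))) = _
        rw [md.map_mul v v.2 w w.2]; rfl }
  have hφ : Function.Surjective φ := by
    intro m
    obtain ⟨w, hw, e⟩ := md.surj (Multiplicative.toAdd m)
    exact ⟨⟨w, hw⟩, congrArg Multiplicative.ofAdd e⟩
  have h2 : (cmod V b X).subgroupOf (ws V b) =
      (ClassTwoFusion.Quad.cv (Multiplicative (MM V b)) ((X.subgroupOf (centralizer ({b} : Set G)) :
        Subgroup (centralizer ({b} : Set G))) : Set (centralizer ({b} : Set G)))).comap φ := by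
    ext w
    rw [mem_subgroupOf, mem_cmod h hbb, mem_comap]
    constructor
    · rintro ⟨-, h3⟩ x hx
      have h4 : x • pim V b w = pim V b w := by
        rw [← md.smul x w w.2, md.eq_iff h hbb (NOThree.TF.conj_mem_ws_of_mem x.2 w.2) w.2]
        rcases (mem_zpowers_iff_of_mul_self (h.pt_sq hbb)).mp (h3 x (mem_subgroupOf.1 hx)) with e | e
        · left; exact mul_inv_eq_one.mp e
        · right; exact mul_inv_eq_iff_eq_mul.mp e
      exact congrArg Multiplicative.ofAdd h4
    · intro h3
      refine ⟨w.2, fun y hy => ?_⟩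
      have h4 : (⟨y, hXC hy⟩ : centralizer ({b} : Set G)) • pim V b w = pim V b w :=
        congrArg Multiplicative.toAdd (h3 ⟨y, hXC hy⟩ hy)
      rw [← md.smul _ w w.2, md.eq_iff h hbb (NOThree.TF.conj_mem_ws_of_mem (hXC hy) w.2) w.2] at h4
      rw [mem_zpowers_iff_of_mul_self (h.pt_sq hbb)]
      rcases h4 with e | e
      · left; exact mul_inv_eq_one.mpr e
      · right; exact mul_inv_eq_iff_eq_mul.mpr e
  change _ = ((cmod V b X).subgroupOf (ws V b)).index
  rw [h2, index_comap_of_surjective _ hφ]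

end Cfsg.Agent.Omega.NO3S.TwoMid
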