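import Cfsg.Agent.Omega.NO3S.TwoMid.EndB
import Cfsg.Agent.Omega.NO3S.TwoMid.NomML
import Cfsg.Agent.Omega.NO3S.TwoMid.Beta.Plug
import Cfsg.Agent.Omega.NO3S.TwoMid.Inn.FiveBeg
import Cfsg.Agent.Omega.NO3S.TwoOne.Main
import Cfsg.Agent.Omega.NO3S.Pt.Plug

/-!
# NO-3S, `TwoMid`: the node

* `NPp K` : **(NP)** `N_p = ⟨p⟩` for all points, for a critical pair at distance 2;
* `twoMid_of` : the socket `TwoMid K` of `Node/NO3S.lean` from (ML), (F1), (NP).
-/

set_option autoImplicit false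

namespace Cfsg.Agent.Omega.NO3S.TwoMid

open Subgroup Cfsg Cfsg.Agent.ZN Cfsg.Agent.MinSimple.Geo Cfsg.Agent.Omega.CaseL Cfsg.Agent.Omega.NO3S.TwoOne
  Cfsg.Agent.Omega.NO3S.Pt Cfsg.Agent.Omega.Frame
open Cfsg.Agent.Omega.NOThree.TF (md_MM)
open Cfsg.Agent.Omega.NOThree.LL (noHP_of)
open Cfsg.Agent.Omega.ML.Final (MLK)

universe u

/-- **(NP)** for `TwoMid` -/
def NPp (K : Cls.{u}) : Prop :=
  ∀ (G : Type u) [Group G] [Finite G], K G → ∀ (S : Sylow 2 G) (P : Subgroup G), Hyp S P →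
    Nat.card (zl (S : Subgroup G) P) = 4 → ∀ (z : G) (a r b : G),
      Mid (S : Subgroup G) (zl (S : Subgroup G) P) z a r b → NB (zl (S : Subgroup G) P) ∨ IsKnownSimple' G

/-- `C(p)` is a K-group -/
theorem kgroup_cent {G : Type u} [Group G] [Finite G] (hG : Ctx G) {p : G} (hp : p ≠ 1) :
    IsKGroup (centralizer ({p} : Set G)) := by
  refine hG.kproper _ fun e => ?_
  have hs := hG.simple
  have h1 : p ∈ center G := by
    rw [mem_center_iff]
    intro g
    have : g ∈ centralizer ({p} : Set G) := by rw [e]; exact mem_top g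
    exact mem_centralizer_singleton_iff.mp this
  rcases hs.eq_bot_or_eq_top_of_normal (center G) inferInstance with h2 | h2
  · rw [h2, mem_bot] at h1
    exact hp h1
  · apply hG.nonComm
    refine ⟨⟨fun a b => ?_⟩⟩
    have : a ∈ center G := by rw [h2]; exact mem_top a
    exact (mem_center_iff.mp this b).symm

/-- **no critical pair at distance 2**, `N_b = ⟨b⟩` -/
theorem Mid.false_nb {G : Type u} [Group G] [Finite G] {T V : Subgroup G} {z a r b : G} (h : Mid T V z a r b)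
    (hML : MLK.{u, u}) (hK : ∀ p : G, Col V p p → IsKGroup (centralizer ({p} : Set G))) (nb : NB V) :
    False := by
  have no := nom_of_mlk hML h.fr hK
  have hM : Inn.Grp.NoM V := fun p hp => noHP_of hML h.fr (hK p hp) (md_MM h.fr hp)
  exact h.false_nb_of no nb (Beta.beta no) fun _ _ _ h' hr => Inn.FiveBeg.inn h' hM hr

/-- **`TwoMid`** -/
theorem twoMid_of {K : Cls.{u}} (hML : MLK.{u, u}) (hF : FOneP K) (hNP : NPp K) : NO3S.TwoMid K := by
  intro G _ _ hK S P h hc y hy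
  obtain ⟨z, hz1⟩ := Subgroup.ne_bot_iff_exists_ne_one.1
    (MinSimple.Basic.zc_ne_bot S.isPGroup' (h.ctx.sylow_ne_bot S))
  have hz1' : (z : G) ≠ 1 := fun e => hz1 (Subtype.ext e)
  rcases hF G hK S P h hc z z.2 hz1' with hf | hk
  · have hfr := fr_four h hc z.2 hz1' hf
    obtain ⟨r, hm⟩ := Mid.of_cr hfr (cr_of_crit h hc z.2 hz1' hfr hy)
    rcases hNP G hK S P h hc _ _ _ _ hm with nb | hk
    · exact (hm.false_nb hML (fun p hp => kgroup_cent h.ctx hp.ne_one) nb).elim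
    · exact hk
  · exact hk

end Cfsg.Agent.Omega.NO3S.TwoMid
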