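import Cfsg.Agent.Omega.NO3S.TwoMid.NomML

/-!
# (NO) from (ML): see `NomML.lean` (`nom_of_mlk`)
-/
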