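import Cfsg.Agent.Omega.NO3S.TwoMid.PartA

/-!
# NO-3S, `|V| = 4`, critical distance 2 (TwoMid): LEMMA N (helper986 #17014), THEOREM N* (helper804 #17001), K-free

* `lemN` : `r ~ b`, `X ≤ W_b` normalised by `C(b) ∩ C(r)`, `b ∉ X`: `X ⊆ {1, r, rb}`;
* `tyN_or'` : either type N (`[W_a, W_b] ≤ ⟨r⟩` for all `a ~ r ~ b`), or `b ∈ [W_b, U_r]` for all `r ~ b`, `r ≠ b`;
* `tyN_or` : either type N, or `b ∈ [U_r, U_r]` for all `r ~ b`, so `W_r ≤ [U_r, U_r]` (`ws_le_commutator`).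
-/

set_option autoImplicit false
set_option linter.unusedSectionVars false

namespace Cfsg.Agent.Omega.NO3S.TwoMid

open Subgroup Cfsg Cfsg.Agent.ZN Cfsg.Agent.MinSimple.Geo Cfsg.Agent.Omega.CaseL Cfsg.Agent.Omega.NO3S.TwoOne
  Cfsg.Agent.Omega.NO3S.Pt
open Cfsg.Agent.Omega.NO3S.Dual (nn mem_nn DW mem_sup_of_comm)
open Cfsg.Agent.Omega.NO3S.TypeN (exists_conj_flag)
open Cfsg.Agent.ZN.Block (conj_mem_of_normalizer conj_mem_of_normalizer' le_normalizer_of_forall
  mem_normalizer_of)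
open scoped commutatorElement

universe u

variable {G : Type u} [Group G] {T V : Subgroup G} {z : G} {a b r : G}

section

variable [Finite G]

/-- `U_r ≤ C(b)` -/
theorem uu_le_centralizer (h : Two T V z) (hrb : Col V r b) : uu V r ≤ centralizer ({b} : Set G) :=
  (h.uu_le_cent r).trans (h.cent_ws_le hrb)

/-- `⟨r⟩ N_b` -/
def mm (V : Subgroup G) (r b : G) : Subgroup G := zpowers r ⊔ nn (ws V b) (kq V b)

omit [Finite G] in
theorem nn_conj {g y : G} (hg : g ∈ centralizer ({b} : Set G)) (hy : y ∈ nn (ws V b) (kq V b)) :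
    g * y * g⁻¹ ∈ nn (ws V b) (kq V b) := by
  have h1 : centralizer ({b} : Set G) ≤ normalizer ((nn (ws V b) (kq V b) : Subgroup G) : Set G) := by
    refine le_trans (le_inf (centralizer_le_normalizer_ws V b)
      ((centralizer_le_normalizer_kq V b).trans (normalizer_le_normalizer_centralizer _))) ?_
    intro x hx
    refine mem_normalizer_iff.mpr fun y => ?_
    unfold nn
    rw [mem_inf, mem_inf, ← mem_normalizer_iff.mp hx.1 y, ← mem_normalizer_iff.mp hx.2 y]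
  exact conj_mem_of_normalizer h1 hg hy

theorem mem_mm (h : Fr T V z) (hrb : Col V r b) {v : G} (hv : v ∈ mm V r b) :
    v ∈ nn (ws V b) (kq V b) ∨ ∃ y ∈ nn (ws V b) (kq V b), v = r * y := by
  have hrW : r ∈ ws V b := h.mem_ws_of_col hrb.symm
  obtain ⟨c, hc, y, hy, rfl⟩ := mem_sup_of_comm (h.ws_comm hrb.right) (by rwa [zpowers_le])
    inf_le_left hv
  rcases (mem_zpowers_iff_of_mul_self (h.pt_sq hrb.left)).mp hc with e | e
  · left; rw [e, one_mul]; exact hy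
  · right; exact ⟨y, hy, by rw [e]⟩

/-- **LEMMA N** (helper986) -/
theorem lemN (h : Fr T V z) (hrb : Col V r b) (hne : r ≠ b) {D : Subgroup G} (hDW : D ≤ ws V b)
    (hDg : ∀ g : G, g * b = b * g → g * r = r * g → ∀ d ∈ D, g * d * g⁻¹ ∈ D) (hbD : b ∉ D) :
    ∀ v ∈ D, v = 1 ∨ v = r ∨ v = r * b := by
  have hrW : r ∈ ws V b := h.mem_ws_of_col hrb.symm
  -- `D ≤ ⟨r⟩ N_b`
  have hDm : D ≤ mm V r b := by
    intro d hd
    refine (h.dw hrb.right).dual (U := zpowers r) (by rwa [zpowers_le]) (hDW hd) fun k hk hkr => ?_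
    have hkb : k * b = b * k := mem_centralizer_singleton_iff.mp (kq_le_centralizer V b hk)
    rcases h.kq_cases' hrb.right hk (hDW hd) with e | e
    · exact comm_of_conj_eq e
    · exfalso
      apply hbD
      have h1 := hDg k hkb (hkr r (mem_zpowers r)) d hd
      rw [e] at h1
      have h2 := mul_mem h1 (inv_mem hd)
      rwa [mul_inv_cancel_right] at h2
  obtain ⟨g, hr, hbl, hr1, hb1⟩ := hrb
  obtain ⟨k₀, -, -, hf⟩ := h.flag hbl hb1
  set T' := cj k₀ T with hT'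
  obtain ⟨m, hm, -, hmm⟩ := h.mover_cj hbl hb1
  have hmr : m * r * m⁻¹ = b * r := hmm r hr hr1 hne
  have hrb : Col V r b := ⟨g, hr, hbl, hr1, hb1⟩
  -- `T_b ≤ K_b (G_b ∩ G_r)`
  have hT : ∀ t ∈ T', ∃ k ∈ kq V b, ∃ s : G, s * b = b * s ∧ s * r = r * s ∧ t = k * s := by
    intro t ht
    have htb : t * b = b * t := mem_centralizer_singleton_iff.mp (hf.ln.T_le ht)
    rcases hf.ln.conj_cases hbl hr hb1 htb (hf.ln.T_norm ht) with e | e
    · exact ⟨1, one_mem _, t, htb, comm_of_conj_eq e, by rw [one_mul]⟩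
    · refine ⟨m, hm, m⁻¹ * t, ?_, ?_, by group⟩
      · exact mul_comm_of (inv_comm_of (mem_centralizer_singleton_iff.mp (kq_le_centralizer V b hm))) htb
      · apply comm_of_conj_eq
        calc m⁻¹ * t * r * (m⁻¹ * t)⁻¹ = m⁻¹ * (t * r * t⁻¹) * m := by group
          _ = m⁻¹ * (m * r * m⁻¹) * m := by rw [e, hmr]
          _ = r := by group
  have hWT : ws V b ≤ T' := by
    have := hf.ln.ws_le_T
    rwa [ws_cj] at this
  -- `D ∩ N_b = 1`
  have hzero : D ⊓ nn (ws V b) (kq V b) ≤ ⊥ := by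
    by_contra hne
    have h1 : T' ≤ normalizer ((D ⊓ nn (ws V b) (kq V b) : Subgroup G) : Set G) := by
      refine le_normalizer_of_forall fun t ht d hd => ?_
      obtain ⟨k, hk, s, hsb, hsr, rfl⟩ := hT t ht
      have h2 : s * d * s⁻¹ ∈ nn (ws V b) (kq V b) := nn_conj (mem_centralizer_singleton_iff.mpr hsb) hd.2
      have h3 : k * (s * d * s⁻¹) = (s * d * s⁻¹) * k := (mem_nn.mp h2).2 k hk
      have e : k * s * d * (k * s)⁻¹ = s * d * s⁻¹ := by
        calc k * s * d * (k * s)⁻¹ = k * (s * d * s⁻¹) * k⁻¹ := by group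
          _ = s * d * s⁻¹ := by rw [h3, mul_inv_cancel_right]
      rw [e]
      exact mem_inf.mpr ⟨hDg s hsb hsr d hd.1, h2⟩
    have h2 : T' ≤ normalizer ((⊥ : Subgroup G) : Set G) := by
      refine le_normalizer_of_forall fun t _ d hd => ?_
      rw [mem_bot] at hd ⊢
      rw [hd]; group
    obtain ⟨d, hd, hd1, hdt⟩ := exists_fixed_mod hf.ln.two ((inf_le_left.trans hDW).trans hWT) h1 h2 hne
    have hdW : d ∈ ws V b := hDW hd.1
    have h3 : ∀ t ∈ T', t * d = d * t := by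
      intro t ht
      have := hdt t ht
      rw [mem_bot] at this
      calc t * d = (t * d * t⁻¹ * d⁻¹) * (d * t) := by group
        _ = d * t := by rw [this, one_mul]
    rcases hf.ln.soc d (hWT hdW) (h.ws_sq hrb.right d hdW) h3 with e | e
    · exact hd1 (by rw [e]; exact one_mem _)
    · exact hbD (e ▸ hd.1)
  intro v hv
  by_cases hv1 : v = 1
  · exact Or.inl hv1
  right
  rcases mem_mm h hrb (hDm hv) with hvn | ⟨y, hy, rfl⟩
  · exact absurd (hzero ⟨hv, hvn⟩) (by simpa using hv1)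
  have hyW : y ∈ ws V b := (mem_nn.mp hy).1
  -- `C(b) ∩ C(r)` centralises `y`
  have h1 : ∀ s : G, s * b = b * s → s * r = r * s → s * y = y * s := by
    intro s hsb hsr
    have h2 : s * (r * y) * s⁻¹ ∈ D := hDg s hsb hsr _ hv
    have h3 : s * (r * y) * s⁻¹ = r * (s * y * s⁻¹) := by
      calc s * (r * y) * s⁻¹ = (s * r * s⁻¹) * (s * y * s⁻¹) := by group
        _ = r * (s * y * s⁻¹) := by rw [hsr, mul_inv_cancel_right]
    have h4 : (r * y)⁻¹ * (r * (s * y * s⁻¹)) ∈ D ⊓ nn (ws V b) (kq V b) := by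
      refine mem_inf.mpr ⟨mul_mem (inv_mem hv) (h3 ▸ h2), ?_⟩
      have e : (r * y)⁻¹ * (r * (s * y * s⁻¹)) = y⁻¹ * (s * y * s⁻¹) := by group
      rw [e]
      exact mul_mem (inv_mem hy) (nn_conj (mem_centralizer_singleton_iff.mpr hsb) hy)
    have h5 : (r * y)⁻¹ * (r * (s * y * s⁻¹)) = 1 := by
      simpa using hzero h4
    apply comm_of_conj_eq
    calc s * y * s⁻¹ = y * ((r * y)⁻¹ * (r * (s * y * s⁻¹))) := by group
      _ = y := by rw [h5, mul_one]
  rcases hf.ln.soc y (hWT hyW) (h.ws_sq hrb.right y hyW) (by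
    intro t ht
    obtain ⟨k, hk, s, hsb, hsr, rfl⟩ := hT t ht
    exact mul_comm_of ((mem_nn.mp hy).2 k hk) (h1 s hsb hsr)) with e | e
  · left; rw [e, mul_one]
  · right; rw [e]

omit [Finite G] in
/-- `C(b) ∩ C(r)` normalises `[W_b, U_r]` -/
theorem commutator_conj (V : Subgroup G) {g : G} (hgb : g * b = b * g) (hgr : g * r = r * g) {d : G}
    (hd : d ∈ ⁅ws V b, uu V r⁆) : g * d * g⁻¹ ∈ ⁅ws V b, uu V r⁆ := by
  have h1 := conj_mem_cj (g := g) hd
  rwa [cj_commutator, cj_ws, cj_uu, hgb, hgr, mul_inv_cancel_right, mul_inv_cancel_right] at h1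

theorem commutator_le_ws (h : Two T V z) (hrb : Col V r b) : ⁅ws V b, uu V r⁆ ≤ ws V b := by
  refine commutator_le.mpr fun w hw u hu => ?_
  rw [commutatorElement_def]
  have e : w * u * w⁻¹ * u⁻¹ = w * (u * w⁻¹ * u⁻¹) := by group
  rw [e]
  exact mul_mem hw (conj_mem_of_normalizer (h.uu_norm hrb) hu (inv_mem hw))

/-- **THEOREM N***, the main part -/
theorem nstar (h : Mid T V z a r b) (hb : b ∉ ⁅ws V b, uu V r⁆) :
    ∀ x ∈ ws V a, ∀ y ∈ ws V b, x * y * x⁻¹ * y⁻¹ ∈ zpowers r := by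
  have hmain := lemN h.fr h.rq h.ne_rq (commutator_le_ws h.toTwo h.rq)
    (fun g hgb hgr d hd => commutator_conj V hgb hgr hd) hb
  intro x hx y hy
  have h1 : y * x * y⁻¹ * x⁻¹ ∈ ⁅ws V b, uu V r⁆ := by
    rw [← commutatorElement_def]
    exact commutator_mem_commutator hy (ws_le_uu h.pr.symm hx)
  have h2 : x * y * x⁻¹ * y⁻¹ = (y * x * y⁻¹ * x⁻¹)⁻¹ := by group
  rw [h2]
  refine inv_mem ?_
  rcases hmain _ h1 with e | e | e
  · rw [e]; exact one_mem _
  · rw [e]; exact mem_zpowers r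
  · exfalso
    have h3 := (mem_inf.mp (h.symm.comm_mem hy hx)).2
    rw [e] at h3
    have h4 := mul_mem (inv_mem (mem_inf.mp h.r_mem).1) h3
    rw [inv_mul_cancel_left] at h4
    exact h.not_mem' h4

/-- **THEOREM N*** : type N or `b ∈ [W_b, U_r]` for all collinear `r ≠ b` -/
theorem tyN_or' (h : Two T V z) : TyN T V z ∨ ∀ r b, Col V r b → b ≠ r → b ∈ ⁅ws V b, uu V r⁆ := by
  by_cases hall : ∃ r b, Col V r b ∧ b ≠ r ∧ b ∈ ⁅ws V b, uu V r⁆
  · right
    obtain ⟨r₀, b₀, hc₀, hne₀, hb₀⟩ := hall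
    intro r b hc hne
    obtain ⟨g, hg1, hg2⟩ := exists_conj_flag h.fr hc₀ hne₀ hc hne
    have := conj_mem_cj (g := g) hb₀
    rwa [cj_commutator, cj_uu, cj_ws, hg1, hg2] at this
  · left
    push Not at hall
    refine { h with n := ?_ }
    intro a r b har hrb x hx y hy
    by_cases hcom : Com V a b
    · rw [hcom x hx y hy, mul_inv_cancel_right, mul_inv_cancel]
      exact one_mem _
    have hm : Mid T V z a r b := { h with pr := har, rq := hrb, ne := hcom }
    exact nstar hm (hall r b hrb (Ne.symm hm.ne_rq)) x hx y hy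

/-- **THEOREM N*** (helper804) -/
theorem tyN_or (h : Two T V z) : TyN T V z ∨ ∀ r b, Col V r b → b ∈ ⁅uu V r, uu V r⁆ := by
  rcases tyN_or' h with h1 | h1
  · exact Or.inl h1
  right
  have key : ∀ r b, Col V r b → b ≠ r → b ∈ ⁅uu V r, uu V r⁆ := fun r b hc hne =>
    commutator_mono (ws_le_uu hc) le_rfl (h1 r b hc hne)
  intro r b hc
  by_cases hne : b = r
  · subst hne
    obtain ⟨g, hb, -, hb1, -⟩ := hc
    obtain ⟨k, -, -, hf⟩ := h.fr.flag hb hb1
    obtain ⟨q, hq, hq1, hqb⟩ := hf.exists_q hb hb1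
    have hbq : b * q ≠ b := fun e => hq1 (by simpa using e)
    have h1 := key b q ⟨g, hb, hq, hb1, hq1⟩ hqb
    have h2 := key b (b * q) ⟨g, hb, mul_mem hb hq, hb1, hf.mul_ne_one hq (Ne.symm hqb)⟩ hbq
    have h3 := mul_mem h2 (inv_mem h1)
    rwa [mul_inv_cancel_right] at h3
  · exact key r b hc hne

omit [Finite G] in
/-- in the second case `W_r ≤ [U_r, U_r]` -/
theorem ws_le_commutator (hall : ∀ r b, Col V r b → b ∈ ⁅uu V r, uu V r⁆) {r : G} (hr1 : r ≠ 1) :
    ws V r ≤ ⁅uu V r, uu V r⁆ := by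
  refine ws_le fun L hL x hx => ?_
  by_cases hx1 : x = 1
  · rw [hx1]; exact one_mem _
  obtain ⟨⟨g, rfl⟩, hr⟩ := hL
  exact hall r x ⟨g, hr, hx, hr1, hx1⟩

end

end Cfsg.Agent.Omega.NO3S.TwoMid
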