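import Cfsg.Agent.Omega.NO3S.TwoMid.Base
import Cfsg.Agent.Omega.NO3S.TypeN.Joined
import Cfsg.Agent.Omega.NO3S.Pt.LemD
import Cfsg.Agent.Omega.NO3S.Far.Flag
import Cfsg.Agent.Lib.NormalAbelian

/-!
# NO-3S, `|V| = 4`, critical distance 2 (TwoMid): the K-free part of helper986's text

`outputs/live/blueprints/OMEGA-NO3S-n2-helper986.md`, section 5 (A).

* `fstar` (F2*) : `u ∈ I_l - V_l`, `l = {b, r, br}`: some `g ∈ K_{br} ∩ C(u)` interchanges `b` and `r`;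
* `lone` (L1) : a `T`-invariant `N`, `z ∈ N ≤ W_z`, `V ≰ N`, has `N ∩ I_l ≤ ⟨z⟩`;
* `fix_le`, `three0` (3.0) : `C_{W_x}(f) ≤ W_x ∩ W_{x^f}`; if this is `≤ W_b`, then `2 |W_x : I_bx| ≤ |W_x : C_{W_x}(f)|`;
* `rr_le_of_D` (3.1) : then `[W_x, W_r] ≤ W_b`;
* `mem_of_fstar` (3.1, F2*-trick) : `d ∈ [W_x, W_r] ∩ W_b`, `d ∉ V_br`, implies `d ∈ [U_r, W_b]`;
* `beta` (4.1) : `[W_x, W_r] = 1`, no over-offender: `W_x` is exact on `M_a`, with centraliser `I_ra`, regular on `f`.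
-/

set_option autoImplicit false
set_option linter.unusedSectionVars false

namespace Cfsg.Agent.Omega.NO3S.TwoMid

open Subgroup Cfsg Cfsg.Agent.ZN Cfsg.Agent.MinSimple.Geo Cfsg.Agent.Omega.CaseL Cfsg.Agent.Omega.NO3S.TwoOne
  Cfsg.Agent.Omega.NO3S.Pt
open Cfsg.Agent.Omega.NO3S.TypeN (exists_conj_flag)
open Cfsg.Agent.ZN.Block (conj_mem_of_normalizer conj_mem_of_normalizer' le_normalizer_of_forall
  mem_normalizer_of)

universe u

variable {G : Type u} [Group G] {T V : Subgroup G} {z : G} {a b c d f p r x y : G}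

/-! ### lines -/

/-- `V_br` -/
def vl (b r : G) : Subgroup G := closure {b, r}

theorem vl_le {g : G} (hb : b ∈ cj g V) (hr : r ∈ cj g V) : vl b r ≤ cj g V := by
  rw [vl, closure_le]
  rintro x (rfl | rfl)
  · exact hb
  · exact hr

theorem vl_eq (h : Fr T V z) {g : G} (hb : b ∈ cj g V) (hr : r ∈ cj g V) (hb1 : b ≠ 1) (hr1 : r ≠ 1)
    (hbr : b ≠ r) : vl b r = cj g V := by
  refine le_antisymm (vl_le hb hr) fun v hv => ?_
  obtain ⟨k, -, -, hf⟩ := h.flag hb hb1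
  have h1 : b ∈ vl b r := subset_closure (Or.inl rfl)
  have h2 : r ∈ vl b r := subset_closure (Or.inr rfl)
  rcases hf.ln.four hb hr hb1 hr1 hbr hv with e | e | e | e
  · rw [e]; exact one_mem _
  · rw [e]; exact h1
  · rw [e]; exact h2
  · rw [e]; exact mul_mem h1 h2

theorem col_mul (h : Fr T V z) (hbr : Col V b r) (hne : b ≠ r) : Col V b (b * r) := by
  obtain ⟨g, hb, hr, hb1, hr1⟩ := hbr
  obtain ⟨k, -, -, hf⟩ := h.flag hb hb1
  exact ⟨g, hb, mul_mem hb hr, hb1, hf.mul_ne_one hr hne⟩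

/-- `W_b ∩ W_r = I_l` -/
theorem mem_ii_iff (h : Fr T V z) {g : G} (hb : b ∈ cj g V) (hr : r ∈ cj g V) (hb1 : b ≠ 1) (hr1 : r ≠ 1)
    (hbr : b ≠ r) {u : G} : u ∈ ws V b ⊓ ws V r ↔ u ∈ ii (cj g V) :=
  ⟨fun hu => h.mem_ii_cj hb hb1 hr hr1 (Ne.symm hbr) hu.1 hu.2,
    fun hu => ⟨h.ii_cj_le hb hb1 hu, h.ii_cj_le hr hr1 hu⟩⟩

/-- **(F2*)** -/
theorem fstar [Finite G] (h : Fr T V z) (hbr : Col V b r) (hne : b ≠ r) (hd : d ∈ ws V b ⊓ ws V r) (hdl : d ∉ vl b r) :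
    ∃ g ∈ kq V (b * r), g * d = d * g ∧ g * b * g⁻¹ = r ∧ g * r * g⁻¹ = b := by
  obtain ⟨g, hb, hr, hb1, hr1⟩ := hbr
  obtain ⟨_, -, -, hf⟩ := h.flag hb hb1
  have hV := vl_eq h hb hr hb1 hr1 hne
  have hbr' : b * r ∈ cj g V := mul_mem hb hr
  have hbr1 : b * r ≠ 1 := hf.mul_ne_one hr hne
  have hbb : b * b = 1 := hf.ln.sq b hb
  have hrr : r * r = 1 := hf.ln.sq r hr
  have hcomm : b * r = r * b := hf.ln.comm hb hr
  have hu : d ∈ ii (cj g V) := (mem_ii_iff h hb hr hb1 hr1 hne).mp hd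
  obtain ⟨k, hk, -, hkm⟩ := h.mover_cj hbr' hbr1
  have hb2 : b ≠ b * r := fun e => hr1 (by simpa using e.symm)
  have hr2 : r ≠ b * r := fun e => hb1 (by simpa using e.symm)
  have e1 : k * b * k⁻¹ = r := by
    rw [hkm b hb hb1 hb2, hcomm, mul_assoc, hbb, mul_one]
  have e2 : k * r * k⁻¹ = b := by
    rw [hkm r hr hr1 hr2, mul_assoc, hrr, mul_one]
  have hdb : d ∈ ws V (b * r) := h.ii_cj_le hbr' hbr1 hu
  rcases h.kq_cases' ⟨g, hbr', hbr', hbr1, hbr1⟩ hk hdb with e3 | e3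
  · exact ⟨k, hk, comm_of_conj_eq e3, e1, e2⟩
  · obtain ⟨m, hm, hmV, hmd⟩ := h.fu_cj hu (by rw [← hV]; exact hdl) hbr' hbr1
    have hmb : m * b = b * m := (mem_centralizer_iff.mp hmV b hb).symm
    have hmr : m * r = r * m := (mem_centralizer_iff.mp hmV r hr).symm
    have hmbr : m * (b * r) * m⁻¹ = b * r := by
      rw [mem_centralizer_iff.mp hmV (b * r) hbr' |>.symm, mul_inv_cancel_right]
    refine ⟨m * k, mul_mem hm hk, ?_, ?_, ?_⟩
    · apply comm_of_conj_eq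
      calc m * k * d * (m * k)⁻¹ = m * (k * d * k⁻¹) * m⁻¹ := by group
        _ = (m * (b * r) * m⁻¹) * (m * d * m⁻¹) := by rw [e3]; group
        _ = (b * r) * (b * r) * d := by rw [hmbr, hmd]; group
        _ = d := by rw [hf.ln.sq _ hbr', one_mul]
    · calc m * k * b * (m * k)⁻¹ = m * (k * b * k⁻¹) * m⁻¹ := by group
        _ = r := by rw [e1, hmr, mul_inv_cancel_right]
    · calc m * k * r * (m * k)⁻¹ = m * (k * r * k⁻¹) * m⁻¹ := by group
        _ = b := by rw [e2, hmb, mul_inv_cancel_right]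

/-! ### (L1) -/

/-- a nontrivial section `B / A` has a nontrivial fixed point under a 2-group -/
theorem exists_fixed_mod [Finite G] {T B A : Subgroup G} (hT : IsPGroup 2 T) (hBT : B ≤ T)
    (hB : T ≤ normalizer (B : Set G)) (hA : T ≤ normalizer (A : Set G)) (hne : ¬ B ≤ A) :
    ∃ m ∈ B, m ∉ A ∧ ∀ t ∈ T, t * m * t⁻¹ * m⁻¹ ∈ A := by
  have : Fact (Nat.Prime 2) := ⟨Nat.prime_two⟩
  have hnA : (A.subgroupOf T).Normal := normal_subgroupOf_of_le_normalizer hA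
  have hnB : (B.subgroupOf T).Normal := normal_subgroupOf_of_le_normalizer hB
  have hp : IsPGroup 2 (T ⧸ A.subgroupOf T) := hT.to_quotient _
  have : Group.IsNilpotent (T ⧸ A.subgroupOf T) := hp.isNilpotent
  let N : Subgroup (T ⧸ A.subgroupOf T) := (B.subgroupOf T).map (QuotientGroup.mk' (A.subgroupOf T))
  have hN : N.Normal := hnB.map _ (QuotientGroup.mk'_surjective _)
  have hN1 : N ≠ ⊥ := by
    intro h
    apply hne
    intro x hx
    have h1 : QuotientGroup.mk' (A.subgroupOf T) ⟨x, hBT hx⟩ ∈ N := ⟨⟨x, hBT hx⟩, hx, rfl⟩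
    rw [h, mem_bot] at h1
    exact (QuotientGroup.eq_one_iff (⟨x, hBT hx⟩ : T)).1 h1
  have h2 := Lib.NormalAbelian.normal_inf_center_ne_bot N hN1
  obtain ⟨⟨y, hy⟩, hy1⟩ := Subgroup.ne_bot_iff_exists_ne_one.1 h2
  obtain ⟨⟨m, hm, rfl⟩, hyc⟩ := mem_inf.1 hy
  refine ⟨m, hm, fun h => hy1 ?_, fun t ht => ?_⟩
  · apply Subtype.ext
    exact (QuotientGroup.eq_one_iff m).2 h
  · have h3 := mem_center_iff.1 hyc (QuotientGroup.mk' (A.subgroupOf T) ⟨t, ht⟩)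
    rw [← map_mul, ← map_mul] at h3
    have h4 : QuotientGroup.mk' (A.subgroupOf T) (⟨t, ht⟩ * m * (⟨t, ht⟩ : T)⁻¹ * m⁻¹) = 1 := by
      rw [mul_assoc, map_mul, h3, ← map_mul]
      rw [show m * ⟨t, ht⟩ * ((⟨t, ht⟩ : T)⁻¹ * m⁻¹) = 1 by group, map_one]
    have h5 := (QuotientGroup.eq_one_iff ((⟨t, ht⟩ : T) * m * (⟨t, ht⟩ : T)⁻¹ * m⁻¹)).1 h4
    exact h5

theorem toAb (h : Fr T V z) : Far.Ab T V z := ⟨h.ln, h.ab, h.f1⟩

/-- **(L1)** -/
theorem lone [Finite G] (h : Fr T V z) {N : Subgroup G} (hz : z ∈ N) (hTN : T ≤ normalizer (N : Set G))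
    (hV : ¬ V ≤ N) : N ⊓ ii V ≤ zpowers z := by
  by_contra hne
  have hiT : ii V ≤ T := (ii_le h.ln.z_mem h.ln.z_ne).trans h.ln.ws_le_T
  have h1 : T ≤ normalizer ((N ⊓ ii V : Subgroup G) : Set G) := by
    refine le_normalizer_of_forall fun t ht u hu => ?_
    exact mem_inf.mpr ⟨conj_mem_of_normalizer hTN ht hu.1,
      conj_mem_of_normalizer (h.ln.T_norm.trans (normalizer_le_normalizer_ii V)) ht hu.2⟩
  have h2 : T ≤ normalizer ((zpowers z : Subgroup G) : Set G) := by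
    refine le_normalizer_of_forall fun t ht u hu => ?_
    obtain ⟨n, rfl⟩ := mem_zpowers_iff.mp hu
    have : Commute t z := mem_centralizer_singleton_iff.mp (h.ln.T_le ht)
    rw [(this.zpow_right n).eq, mul_inv_cancel_right]
    exact hu
  obtain ⟨u, hu, huz, hut⟩ := exists_fixed_mod h.ln.two (inf_le_right.trans hiT) h1 h2 hne
  have huV : u ∈ V := by
    refine (toAb h).mem_V_of_T hu.2 fun t ht => ?_
    rcases (mem_zpowers_iff_of_mul_self h.ln.zz).mp (hut t ht) with e | e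
    · left
      calc t * u * t⁻¹ = (t * u * t⁻¹ * u⁻¹) * u := by group
        _ = u := by rw [e, one_mul]
    · right
      calc t * u * t⁻¹ = (t * u * t⁻¹ * u⁻¹) * u := by group
        _ = z * u := by rw [e]
  apply hV
  intro v hv
  have hu1 : u ≠ 1 := fun e => huz (e ▸ one_mem _)
  have huz' : z ≠ u := fun e => huz (e ▸ mem_zpowers z)
  rcases h.ln.four h.ln.z_mem huV h.ln.z_ne hu1 huz' hv with e | e | e | e
  · rw [e]; exact one_mem _
  · rw [e]; exact hz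
  · rw [e]; exact hu.1
  · rw [e]; exact mul_mem hz hu.1

/-! ### (3.0), (3.1) -/

/-- `C_{W_x}(f) ≤ W_{x^f}` -/
theorem fix_le (V : Subgroup G) (x f : G) : ws V x ⊓ centralizer ({f} : Set G) ≤ ws V x ⊓ ws V (f * x * f⁻¹) := by
  rintro y ⟨h1, h2⟩
  refine ⟨h1, ?_⟩
  have := conj_mem_ws f h1
  rwa [← mem_centralizer_singleton_iff.mp h2, mul_inv_cancel_right] at this

theorem x_not_mem (hx : f * x * f⁻¹ ≠ x) : x ∉ ws V x ⊓ centralizer ({f} : Set G) := by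
  rintro ⟨-, h2⟩
  apply hx
  rw [← mem_centralizer_singleton_iff.mp h2, mul_inv_cancel_right]

theorem two_mul_relIndex_le [Finite G] {A B C : Subgroup G} (hAB : A < B) (hBC : B ≤ C) :
    2 * B.relIndex C ≤ A.relIndex C := by
  rw [← relIndex_mul_relIndex A B C hAB.le hBC]
  refine Nat.mul_le_mul_right _ ?_
  have h1 : A.relIndex B ≠ 1 := fun e => absurd (relIndex_eq_one.mp e) hAB.not_ge
  have h2 : A.relIndex B ≠ 0 := index_ne_zero_of_finite
  omega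

/-- **(3.0)** -/
theorem three0 [Finite G] (h : Fr T V z) (hbx : Col V b x) (hx : f * x * f⁻¹ ≠ x)
    (hD : ws V x ⊓ ws V (f * x * f⁻¹) ≤ ws V b) :
    ws V x ⊓ centralizer ({f} : Set G) < ws V b ⊓ ws V x ∧
    2 * (ws V b ⊓ ws V x).relIndex (ws V x) ≤ (ws V x ⊓ centralizer ({f} : Set G)).relIndex (ws V x) := by
  have h1 : ws V x ⊓ centralizer ({f} : Set G) < ws V b ⊓ ws V x := by
    refine lt_of_le_of_ne (le_inf ((fix_le V x f).trans hD) inf_le_left) fun e => ?_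
    apply x_not_mem (V := V) hx
    rw [e]
    exact ⟨h.mem_ws_of_col hbx, h.mem_ws_self hbx.right⟩
  exact ⟨h1, two_mul_relIndex_le h1 inf_le_right⟩

/-- **(3.1)** `[W_x, W_r] ≤ W_b` -/
theorem rr_le_of_D (h : Two T V z) (har : Col V a r) (hbr : Col V b r) (hbx : Col V b x) (hf : f ∈ ws V a)
    (hD : ws V x ⊓ ws V (f * x * f⁻¹) ≤ ws V b) : rr V x r ≤ ws V b := by
  have h1 : rr V x r ≤ ws V x ⊓ ws V r := by
    refine (closure_le _).mpr ?_
    rintro _ ⟨u, hu, w, hw, rfl⟩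
    exact h.comm_mem hbx.symm hbr hu hw
  intro d hd
  refine hD ⟨(h1 hd).1, ?_⟩
  have h2 := conj_mem_ws f (h1 hd).1
  have h3 : f * d = d * f := h.com har f hf d (h1 hd).2
  rwa [h3, mul_inv_cancel_right] at h2

theorem rr_le_commutator (V : Subgroup G) (hbx : Col V b x) (r : G) : rr V x r ≤ ⁅uu V b, ws V r⁆ := by
  refine (closure_le _).mpr ?_
  rintro _ ⟨u, hu, w, hw, rfl⟩
  exact commutator_mem_commutator (ws_le_uu hbx hu) hw

theorem cj_commutator (g : G) (A B : Subgroup G) : cj g ⁅A, B⁆ = ⁅cj g A, cj g B⁆ := by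
  unfold cj
  exact map_commutator _ _ _

/-- **(3.1), the F2*-trick**: `d ∈ [W_x, W_r] ∩ W_b`, `d ∉ V_br` implies `d ∈ [U_r, W_b]` -/
theorem mem_of_fstar [Finite G] (h : Two T V z) (hbr : Col V b r) (hne : b ≠ r) (hbx : Col V b x)
    (hd : d ∈ rr V x r) (hdb : d ∈ ws V b) (hdl : d ∉ vl b r) : d ∈ ⁅uu V r, ws V b⁆ := by
  have h1 : d ∈ ws V r := by
    have : rr V x r ≤ ws V x ⊓ ws V r := by
      refine (closure_le _).mpr ?_
      rintro _ ⟨u, hu, w, hw, rfl⟩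
      exact h.comm_mem hbx.symm hbr hu hw
    exact (this hd).2
  obtain ⟨g, -, hgd, hgb, hgr⟩ := fstar h.fr hbr hne ⟨hdb, h1⟩ hdl
  have h2 := conj_mem_cj (g := g) (rr_le_commutator V hbx r hd)
  rw [cj_commutator, cj_uu, cj_ws, hgb, hgr, hgd, mul_inv_cancel_right] at h2
  exact h2

theorem relIndex_const (h : Fr T V z) (hbx : Col V b x) (hne : x ≠ b) (har : Col V a r) (hne' : r ≠ a) :
    (ws V b ⊓ ws V x).relIndex (ws V x) = (ws V a ⊓ ws V r).relIndex (ws V r) := by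
  obtain ⟨g, h1, h2⟩ := exists_conj_flag h hbx hne har hne'
  have h3 : cj g (ws V b ⊓ ws V x) = ws V a ⊓ ws V r := by
    unfold cj
    rw [map_inf _ _ _ (MulAut.conj g).injective]
    change cj g (ws V b) ⊓ cj g (ws V x) = _
    rw [cj_ws, cj_ws, h1, h2]
  have h4 : cj g (ws V x) = ws V r := by rw [cj_ws, h2]
  rw [← h3, ← h4]
  unfold cj
  exact (relIndex_map_map_of_injective _ _ (MulAut.conj g).injective).symm

theorem relIndex_comm (h : Fr T V z) (hbx : Col V b x) (hne : x ≠ b) :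
    (ws V b ⊓ ws V x).relIndex (ws V x) = (ws V b ⊓ ws V x).relIndex (ws V b) := by
  have := relIndex_const h hbx hne hbx.symm (Ne.symm hne)
  rwa [inf_comm (ws V x) (ws V b)] at this

/-! ### (4.1) -/

/-- the elements of `W_a` commuting with `X` modulo `⟨a⟩` (the preimage of `C_{M_a}(X)`) -/
def cmod (V : Subgroup G) (a : G) (X : Subgroup G) : Subgroup G where
  carrier := {w | w ∈ ws V a ∧ w * a = a * w ∧ ∀ y ∈ X, y * w * y⁻¹ * w⁻¹ ∈ zpowers a}
  mul_mem' := by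
    rintro w w' ⟨h1, h2, h3⟩ ⟨h1', h2', h3'⟩
    refine ⟨mul_mem h1 h1', mul_comm_of h2 h2', fun y hy => ?_⟩
    have e : y * (w * w') * y⁻¹ * (w * w')⁻¹ = (y * w * y⁻¹ * w⁻¹) * (w * (y * w' * y⁻¹ * w'⁻¹) * w⁻¹) := by
      group
    rw [e, TyN.zc (mem_centralizer_singleton_iff.mpr h2) (h3' y hy)]
    exact mul_mem (h3 y hy) (h3' y hy)
  one_mem' := ⟨one_mem _, by simp, fun y _ => by simp⟩
  inv_mem' := by
    rintro w ⟨h1, h2, h3⟩
    refine ⟨inv_mem h1, inv_comm_of h2, fun y hy => ?_⟩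
    have e : y * w⁻¹ * y⁻¹ * w⁻¹⁻¹ = (w⁻¹ * (y * w * y⁻¹ * w⁻¹) * w⁻¹⁻¹)⁻¹ := by group
    rw [e, TyN.zc (inv_mem (mem_centralizer_singleton_iff.mpr h2)) (h3 y hy)]
    exact inv_mem (h3 y hy)

theorem mem_cmod (h : Fr T V z) (ha : Col V a a) {X : Subgroup G} {w : G} :
    w ∈ cmod V a X ↔ w ∈ ws V a ∧ ∀ y ∈ X, y * w * y⁻¹ * w⁻¹ ∈ zpowers a :=
  ⟨fun hw => ⟨hw.1, hw.2.2⟩, fun hw => ⟨hw.1, h.ws_comm ha w hw.1 a (h.mem_ws_self ha), hw.2⟩⟩

theorem cmod_le (V : Subgroup G) (a : G) (X : Subgroup G) : cmod V a X ≤ ws V a := fun _ h => h.1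

/-- the image of `X` in `H_a` is not an over-offender on `M_a` -/
def NoOv (V : Subgroup G) (a : G) (X : Subgroup G) : Prop :=
  (X ⊓ kq V a).relIndex X ≤ (cmod V a X).relIndex (ws V a)

/-- the elements of `X` commuting with `f` modulo the central `⟨a⟩` -/
def xmod (a : G) (X : Subgroup G) (f : G) : Subgroup G where
  carrier := {y | y ∈ X ∧ y * a = a * y ∧ y * f * y⁻¹ * f⁻¹ ∈ zpowers a}
  mul_mem' := by
    rintro y y' ⟨h1, h2, h3⟩ ⟨h1', h2', h3'⟩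
    refine ⟨mul_mem h1 h1', mul_comm_of h2 h2', ?_⟩
    have e : y * y' * f * (y * y')⁻¹ * f⁻¹ = (y * (y' * f * y'⁻¹ * f⁻¹) * y⁻¹) * (y * f * y⁻¹ * f⁻¹) := by
      group
    rw [e, TyN.zc (mem_centralizer_singleton_iff.mpr h2) h3']
    exact mul_mem h3' h3
  one_mem' := ⟨one_mem _, by simp, by simp⟩
  inv_mem' := by
    rintro y ⟨h1, h2, h3⟩
    refine ⟨inv_mem h1, inv_comm_of h2, ?_⟩
    have e : y⁻¹ * f * y⁻¹⁻¹ * f⁻¹ = (y⁻¹ * (y * f * y⁻¹ * f⁻¹) * y⁻¹⁻¹)⁻¹ := by group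
    rw [e, TyN.zc (inv_mem (mem_centralizer_singleton_iff.mpr h2)) h3]
    exact inv_mem h3

theorem xmod_relIndex_le [Finite G] {X : Subgroup G} (haa : a * a = 1) :
    (X ⊓ centralizer ({f} : Set G)).relIndex (xmod a X f) ≤ 2 := by
  by_cases hle : xmod a X f ≤ X ⊓ centralizer ({f} : Set G)
  · rw [relIndex_eq_one.mpr hle]
    norm_num
  obtain ⟨u, hu, hun⟩ := SetLike.not_le_iff_exists.mp hle
  refine le_of_eq (relIndex_eq_two_iff.mpr ⟨u, hu, fun y hy => ?_⟩)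
  have hcase : ∀ y ∈ xmod a X f, y ∉ X ⊓ centralizer ({f} : Set G) → y * f * y⁻¹ * f⁻¹ = a := by
    intro y hy hyn
    rcases (mem_zpowers_iff_of_mul_self haa).mp hy.2.2 with e | e
    · exfalso
      apply hyn
      refine mem_inf.mpr ⟨hy.1, mem_centralizer_singleton_iff.mpr ?_⟩
      calc y * f = (y * f * y⁻¹ * f⁻¹) * (f * y) := by group
        _ = f * y := by rw [e, one_mul]
    · exact e
  by_cases hyc : y ∈ X ⊓ centralizer ({f} : Set G)
  · refine Or.inr ⟨hyc, fun h1 => hun ?_⟩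
    have := mul_mem (inv_mem hyc) h1
    rwa [inv_mul_cancel_left] at this
  · refine Or.inl ⟨mem_inf.mpr ⟨mul_mem hy.1 hu.1, mem_centralizer_singleton_iff.mpr ?_⟩, hyc⟩
    have e1 := hcase y hy hyc
    have e2 := hcase u hu hun
    have e3 : y * u * f * (y * u)⁻¹ * f⁻¹ = 1 := by
      calc y * u * f * (y * u)⁻¹ * f⁻¹ = (y * (u * f * u⁻¹ * f⁻¹) * y⁻¹) * (y * f * y⁻¹ * f⁻¹) := by group
        _ = (y * a * y⁻¹) * a := by rw [e1, e2]
        _ = 1 := by rw [hy.2.1, mul_inv_cancel_right, haa]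
    calc y * u * f = (y * u * f * (y * u)⁻¹ * f⁻¹) * (f * (y * u)) := by group
      _ = f * (y * u) := by rw [e3, one_mul]

/-- **(4.1)** -/
theorem beta [Finite G] (h : Mid T V z a r b) (hbx : Col V b x) (hf : f ∈ ws V a) (hxf : f * x * f⁻¹ ≠ x)
    (hD : ws V x ⊓ ws V (f * x * f⁻¹) ≤ ws V b) (hcom : Com V x r) (hNO : NoOv V a (ws V x)) :
    cmod V a (ws V x) = ws V a ⊓ ws V r ∧
    (∀ y ∈ ws V x, y * f * y⁻¹ * f⁻¹ ∈ zpowers a → y ∈ kq V a) ∧
    (ws V x ⊓ kq V a).relIndex (ws V x) = (ws V a ⊓ ws V r).relIndex (ws V a) ∧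
    (ws V x ⊓ centralizer ({f} : Set G)).relIndex (ws V x) = 2 * (ws V b ⊓ ws V x).relIndex (ws V x) := by
  have har := h.pr
  have haa : a * a = 1 := h.fr.pt_sq har.left
  have hxb : x ≠ b := by
    rintro rfl
    apply hxf
    have h1 : f * x = x * f := by
      have := h.symm.cent hf
      rw [mem_centralizer_singleton_iff] at this
      exact this
    rw [h1, mul_inv_cancel_right]
  -- `W_x ≤ C(a)`
  have hxa : ∀ y ∈ ws V x, y * a = a * y := fun y hy => hcom y hy a (h.fr.mem_ws_of_col har.symm)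
  obtain ⟨-, h1⟩ := three0 h.fr hbx hxf hD
  have hn : (ws V b ⊓ ws V x).relIndex (ws V x) = (ws V a ⊓ ws V r).relIndex (ws V a) := by
    have := relIndex_const h.fr hbx hxb har.symm h.ne_pr
    rwa [inf_comm (ws V r) (ws V a)] at this
  -- `C_{W_x}(f) ≤ Y ≤ W_x`
  set Y := xmod a (ws V x) f with hY
  have hYx : Y ≤ ws V x := fun y hy => hy.1
  have hCY : ws V x ⊓ centralizer ({f} : Set G) ≤ Y := by
    rintro y ⟨hy, hyf⟩
    refine ⟨hy, hxa y hy, ?_⟩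
    rw [mem_centralizer_singleton_iff.mp hyf, mul_inv_cancel_right, mul_inv_cancel]
    exact one_mem _
  have hKY : ws V x ⊓ kq V a ≤ Y := fun y hy => ⟨hy.1, hxa y hy.1, kq_comm hy.2 hf⟩
  have h2 := relIndex_mul_relIndex _ _ _ hCY hYx
  have h3 := xmod_relIndex_le (X := ws V x) (f := f) haa
  have h4 := relIndex_mul_relIndex _ _ _ hKY hYx
  have hsub : ws V a ⊓ ws V r ≤ cmod V a (ws V x) := by
    rintro w ⟨hw1, hw2⟩
    rw [mem_cmod h.fr har.left]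
    refine ⟨hw1, fun y hy => ?_⟩
    rw [hcom y hy w hw2, mul_inv_cancel_right, mul_inv_cancel]
    exact one_mem _
  have h5 := relIndex_mul_relIndex _ _ _ hsub (cmod_le V a (ws V x))
  have hNO' : (ws V x ⊓ kq V a).relIndex (ws V x) ≤ (cmod V a (ws V x)).relIndex (ws V a) := hNO
  set n := (ws V b ⊓ ws V x).relIndex (ws V x) with hndef
  rw [← hn] at h5 ⊢
  have p1 : 0 < Y.relIndex (ws V x) := Nat.pos_of_ne_zero index_ne_zero_of_finite
  have p2 : 0 < (ws V x ⊓ kq V a).relIndex Y := Nat.pos_of_ne_zero index_ne_zero_of_finite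
  have p3 : 0 < (ws V a ⊓ ws V r).relIndex (cmod V a (ws V x)) := Nat.pos_of_ne_zero index_ne_zero_of_finite
  have p4 : 0 < (cmod V a (ws V x)).relIndex (ws V a) := Nat.pos_of_ne_zero index_ne_zero_of_finite
  -- `n ≤ |W_x : Y|`
  have q1 : n ≤ Y.relIndex (ws V x) := by
    have : 2 * n ≤ 2 * Y.relIndex (ws V x) := by
      rw [← h2] at h1
      exact h1.trans (Nat.mul_le_mul_right _ h3)
    omega
  have q2 : Y.relIndex (ws V x) ≤ (ws V x ⊓ kq V a).relIndex (ws V x) := by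
    rw [← h4]
    exact Nat.le_mul_of_pos_left _ p2
  have q3 : (cmod V a (ws V x)).relIndex (ws V a) ≤ n := by
    rw [← h5]
    exact Nat.le_mul_of_pos_left _ p3
  have r1 : (cmod V a (ws V x)).relIndex (ws V a) = n := le_antisymm q3 (by omega)
  have r2 : (ws V x ⊓ kq V a).relIndex (ws V x) = n := le_antisymm (by omega) (by omega)
  have r3 : Y.relIndex (ws V x) = n := le_antisymm (by omega) q1
  have hnpos : 0 < n := by rw [← r3]; exact p1
  refine ⟨?_, ?_, r2, ?_⟩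
  · rw [r1] at h5
    have h6 : (ws V a ⊓ ws V r).relIndex (cmod V a (ws V x)) = 1 :=
      Nat.eq_of_mul_eq_mul_right hnpos (by rw [h5, one_mul])
    exact le_antisymm (relIndex_eq_one.mp h6) hsub
  · intro y hy hyf
    rw [r2, r3] at h4
    have h6 : (ws V x ⊓ kq V a).relIndex Y = 1 :=
      Nat.eq_of_mul_eq_mul_right hnpos (by rw [h4, one_mul])
    exact (relIndex_eq_one.mp h6 ⟨hy, hxa y hy, hyf⟩).2
  · refine le_antisymm ?_ h1
    rw [← h2, r3]
    exact Nat.mul_le_mul_right _ h3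

end Cfsg.Agent.Omega.NO3S.TwoMid
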