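import Cfsg.Agent.Omega.NO3S.TwoMid.Base

/-!
# NO-3S, `|V| = 4`, critical distance 2: TYPE N (`[W_a, W_b] ≤ ⟨r⟩` for all `a ~ r ~ b`)

helper986 #11290 (b), helper502 #15661 (5), helper740 (UM).

* `TyN T V z` : `Two` and `[W_a, W_b] ≤ ⟨r⟩` for every path `a ~ r ~ b`;
* `TyN.uu_comm` : `[U_r, U_r] ≤ ⟨r⟩`, `TyN.uu_sq` : `x² ∈ ⟨r⟩` for `x ∈ U_r`, `TyN.inf_comm` : `U_r ∩ U_p` is abelian,
  of exponent 2 (`TyN.inf_sq`), `r ≠ p`;
* `TyN.dihedral` : `a ~ r ~ p`, `w ∈ U_p`, `y ∈ W_a` : `[y, [y, w]] = 1`; `TyN.dihedral_all` : for all `y ∈ U_r`;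
* `TyN.middle` : the middle of a critical pair is unique; `TyN.inf_eq` (UM).
-/

set_option autoImplicit false
set_option linter.unusedSectionVars false

namespace Cfsg.Agent.Omega.NO3S.TwoMid

open Subgroup Cfsg Cfsg.Agent.ZN Cfsg.Agent.MinSimple.Geo Cfsg.Agent.Omega.CaseL Cfsg.Agent.Omega.NO3S.TwoOne
  Cfsg.Agent.Omega.NO3S.Pt
open Cfsg.Agent.ZN.Block (conj_mem_of_normalizer conj_mem_of_normalizer' le_normalizer_of_forall
  mem_normalizer_of)

universe u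

variable {G : Type u} [Group G]

/-- type N -/
structure TyN (T V : Subgroup G) (z : G) : Prop extends Two T V z where
  n : ∀ a r b, Col V a r → Col V r b → ∀ x ∈ ws V a, ∀ y ∈ ws V b, x * y * x⁻¹ * y⁻¹ ∈ zpowers r

namespace TyN

variable {T V : Subgroup G} {z : G} {a b p r : G}

/-- elements of `C(r)` centralise `⟨r⟩` -/
theorem zc {c y : G} (hc : c ∈ centralizer ({r} : Set G)) (hy : y ∈ zpowers r) : c * y * c⁻¹ = y := by
  obtain ⟨n, rfl⟩ := mem_zpowers_iff.mp hy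
  have h : Commute c r := mem_centralizer_singleton_iff.mp hc
  rw [(h.zpow_right n).eq, mul_inv_cancel_right]

/-- commutators of elements of `C(r)` with commutators in `⟨r⟩` -/
theorem comm_closure {A B : Set G} (hA : A ⊆ centralizer ({r} : Set G)) (hB : B ⊆ centralizer ({r} : Set G))
    (h : ∀ x ∈ A, ∀ y ∈ B, x * y * x⁻¹ * y⁻¹ ∈ zpowers r) :
    ∀ x ∈ closure A, ∀ y ∈ closure B, x * y * x⁻¹ * y⁻¹ ∈ zpowers r := by
  have hAc : closure A ≤ centralizer ({r} : Set G) := (closure_le _).mpr hA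
  have hBc : closure B ≤ centralizer ({r} : Set G) := (closure_le _).mpr hB
  have h1 : ∀ x ∈ A, ∀ y ∈ closure B, x * y * x⁻¹ * y⁻¹ ∈ zpowers r := by
    intro x hx y hy
    induction hy using closure_induction with
    | mem y hy => exact h x hx y hy
    | one => simp
    | mul y y' hy hy' h1 h2 =>
      have e : x * (y * y') * x⁻¹ * (y * y')⁻¹ =
          (x * y * x⁻¹ * y⁻¹) * (y * (x * y' * x⁻¹ * y'⁻¹) * y⁻¹) := by group
      rw [e, zc (hBc hy) h2]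
      exact mul_mem h1 h2
    | inv y hy h1 =>
      have e : x * y⁻¹ * x⁻¹ * y⁻¹⁻¹ = (y⁻¹ * (x * y * x⁻¹ * y⁻¹) * y⁻¹⁻¹)⁻¹ := by group
      rw [e, zc (inv_mem (hBc hy)) h1]
      exact inv_mem h1
  intro x hx y hy
  induction hx using closure_induction with
  | mem x hx => exact h1 x hx y hy
  | one => simp
  | mul x x' hx hx' h1 h2 =>
    have e : x * x' * y * (x * x')⁻¹ * y⁻¹ =
        (x * (x' * y * x'⁻¹ * y⁻¹) * x⁻¹) * (x * y * x⁻¹ * y⁻¹) := by group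
    rw [e, zc (hAc hx) h2]
    exact mul_mem h2 h1
  | inv x hx h1 =>
    have e : x⁻¹ * y * x⁻¹⁻¹ * y⁻¹ = (x⁻¹ * (x * y * x⁻¹ * y⁻¹) * x⁻¹⁻¹)⁻¹ := by group
    rw [e, zc (inv_mem (hAc hx)) h1]
    exact inv_mem h1

theorem uu_eq_closure (V : Subgroup G) (r : G) : uu V r = closure {x | ∃ y, Col V r y ∧ x ∈ ws V y} := by
  apply le_antisymm
  · refine uu_le fun y hy x hx => subset_closure ⟨y, hy, hx⟩
  · rw [closure_le]
    rintro x ⟨y, hy, hx⟩
    exact ws_le_uu hy hx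

variable [Finite G]

theorem uu_le_cr (h : TyN T V z) (r : G) : uu V r ≤ centralizer ({r} : Set G) :=
  (h.toTwo.uu_le_o2 r).trans (o2_le _)

/-- `[U_r, U_r] ≤ ⟨r⟩` -/
theorem uu_comm (h : TyN T V z) {x y : G} (hx : x ∈ uu V r) (hy : y ∈ uu V r) :
    x * y * x⁻¹ * y⁻¹ ∈ zpowers r := by
  have hle : {x | ∃ y, Col V r y ∧ x ∈ ws V y} ⊆ (centralizer ({r} : Set G) : Set G) := by
    rintro x ⟨y, hy, hx⟩
    exact h.uu_le_cr r (ws_le_uu hy hx)
  rw [uu_eq_closure] at hx hy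
  refine comm_closure hle hle ?_ x hx y hy
  rintro x ⟨a, ha, hx⟩ y ⟨b, hb, hy⟩
  exact h.n a r b ha.symm hb x hx y hy

/-- `x² ∈ ⟨r⟩`, `x ∈ U_r` -/
theorem uu_sq (h : TyN T V z) {x : G} (hx : x ∈ uu V r) : x * x ∈ zpowers r := by
  have hx' := hx
  rw [uu_eq_closure] at hx
  have hc : ∀ x ∈ closure {x | ∃ y, Col V r y ∧ x ∈ ws V y}, x ∈ uu V r := by
    intro x hx
    rwa [uu_eq_closure]
  clear hx'
  induction hx using closure_induction with
  | mem x hx =>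
    obtain ⟨y, hy, hx⟩ := hx
    rw [h.fr.ws_sq hy.right x hx]
    exact one_mem _
  | one => simp
  | mul x y hx hy h1 h2 =>
    have e : x * y * (x * y) = (x * x) * (x⁻¹ * (y * x * y⁻¹ * x⁻¹) * x⁻¹⁻¹) * (y * y) := by group
    rw [e, zc (inv_mem (h.uu_le_cr r (hc x hx))) (h.uu_comm (hc y hy) (hc x hx))]
    exact mul_mem (mul_mem h1 (h.uu_comm (hc y hy) (hc x hx))) h2
  | inv x hx h1 =>
    have e : x⁻¹ * x⁻¹ = (x * x)⁻¹ := by group
    rw [e]
    exact inv_mem h1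

/-- `⟨p⟩ ∩ ⟨r⟩ = 1` -/
theorem eq_one (h : TyN T V z) (hpr : Col V p r) (hne : p ≠ r) {c : G} (h1 : c ∈ zpowers p) (h2 : c ∈ zpowers r) :
    c = 1 := by
  rcases (mem_zpowers_iff_of_mul_self (h.fr.pt_sq hpr.left)).mp h1 with e | e
  · exact e
  rcases (mem_zpowers_iff_of_mul_self (h.fr.pt_sq hpr.right)).mp h2 with e' | e'
  · exact e'
  · exact absurd (e.symm.trans e') hne

theorem inf_comm (h : TyN T V z) (hpr : Col V p r) (hne : p ≠ r) {x y : G} (hx : x ∈ uu V p ⊓ uu V r)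
    (hy : y ∈ uu V p ⊓ uu V r) : x * y = y * x := by
  have h1 := h.eq_one hpr hne (h.uu_comm hx.1 hy.1) (h.uu_comm hx.2 hy.2)
  calc x * y = (x * y * x⁻¹ * y⁻¹) * (y * x) := by group
    _ = y * x := by rw [h1, one_mul]

theorem inf_sq (h : TyN T V z) (hpr : Col V p r) (hne : p ≠ r) {x : G} (hx : x ∈ uu V p ⊓ uu V r) :
    x * x = 1 := h.eq_one hpr hne (h.uu_sq hx.1) (h.uu_sq hx.2)

/-- `U_p` normalises `U_r`, `p ~ r` -/
theorem uu_norm_uu (h : TyN T V z) (hpr : Col V p r) : uu V p ≤ normalizer ((uu V r : Subgroup G) : Set G) :=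
  ((h.toTwo.uu_le_cent p).trans (h.toTwo.cent_ws_le hpr)).trans (centralizer_le_normalizer_uu V r)

/-- `[U_r, U_p] ≤ U_r ∩ U_p` -/
theorem comm_mem_inf (h : TyN T V z) (hpr : Col V p r) {x y : G} (hx : x ∈ uu V r) (hy : y ∈ uu V p) :
    x * y * x⁻¹ * y⁻¹ ∈ uu V p ⊓ uu V r := by
  refine mem_inf.mpr ⟨?_, ?_⟩
  · exact (uu V p).mul_mem (conj_mem_of_normalizer (h.uu_norm_uu hpr.symm) hx hy) ((uu V p).inv_mem hy)
  · have e : x * y * x⁻¹ * y⁻¹ = x * (y * x⁻¹ * y⁻¹) := by group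
    rw [e]
    exact (uu V r).mul_mem hx (conj_mem_of_normalizer (h.uu_norm_uu hpr) hy ((uu V r).inv_mem hx))

/-- **DIHEDRAL TRICK**: `a ~ r ~ p`, `w ∈ U_p`, `y ∈ W_a`: `y` commutes with `y^w`, so with `[y, w]` -/
theorem dihedral (h : TyN T V z) (har : Col V a r) (hrp : Col V r p) (hne : p ≠ r) {w y : G}
    (hw : w ∈ uu V p) (hy : y ∈ ws V a) : y * (y * w * y⁻¹ * w⁻¹) = (y * w * y⁻¹ * w⁻¹) * y := by
  set c := y * w * y⁻¹ * w⁻¹ with hc
  have hyU : y ∈ uu V r := ws_le_uu har.symm hy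
  have hcm : c ∈ uu V p ⊓ uu V r := h.comm_mem_inf hrp.symm hyU hw
  have hyy : y * y = 1 := h.fr.ws_sq har.left y hy
  have hyi : y⁻¹ = y := inv_eq_self hyy
  have e1 : w * y * w⁻¹ = c⁻¹ * y := by
    rw [hc]
    calc w * y * w⁻¹ = w * y⁻¹⁻¹ * w⁻¹ := by rw [inv_inv]
      _ = (y * w * y⁻¹ * w⁻¹)⁻¹ * y := by group
  have hcc : c * c = 1 := h.inf_sq hrp.symm hne hcm
  have hci : c⁻¹ = c := inv_eq_self hcc
  -- `(c y)² = 1` because `c y = w y w⁻¹` (up to `c = c⁻¹`)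
  have e3 : c * y * (c * y) = 1 := by
    have : w * y * w⁻¹ * (w * y * w⁻¹) = 1 := by
      calc w * y * w⁻¹ * (w * y * w⁻¹) = w * (y * y) * w⁻¹ := by group
        _ = 1 := by rw [hyy]; group
    rwa [e1, hci] at this
  have e4 : y * c * y⁻¹ * c⁻¹ = 1 := by
    rw [hyi, hci]
    have : c * y * c * y = 1 := by
      calc c * y * c * y = c * y * (c * y) := by group
        _ = 1 := e3
    calc y * c * y * c = y * (c * y * c * y) * y⁻¹ := by group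
      _ = 1 := by rw [this]; group
  calc y * c = (y * c * y⁻¹ * c⁻¹) * (c * y) := by group
    _ = c * y := by rw [e4, one_mul]

end TyN

end Cfsg.Agent.Omega.NO3S.TwoMid
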